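import Mathlib
import Cfsg.Prelude.Def_Transfer
import Cfsg.Agent.Lib.Transfer.NormalPComplement

/-! Basic lemmas for groups with a cyclic Sylow subgroup and abelian `p'`-subgroups. -/

set_option autoImplicit false

namespace Cfsg.Agent.GenA.CycPrime

open Subgroup
open scoped Pointwise

variable {G : Type*} [Group G]

/-- Subgroups of order prime to `p` are abelian. -/
def AbPrime (p : ℕ) (G : Type*) [Group G] : Prop :=
  ∀ H : Subgroup G, ¬ p ∣ Nat.card H → ∀ a ∈ H, ∀ b ∈ H, a * b = b * a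

theorem eq_of_card_eq {C A B : Subgroup G} [Finite G] (hC : IsCyclic C) (hA : A ≤ C) (hB : B ≤ C)
    (h : Nat.card A = Nat.card B) : A = B := by
  classical
  haveI := hC
  suffices key : ∀ {A B : Subgroup G}, A ≤ C → B ≤ C → Nat.card A = Nat.card B → B ≤ A from
    le_antisymm (key hB hA h.symm) (key hA hB h)
  intro A B hA hB h y hy
  by_contra hyA
  haveI := Fintype.ofFinite C
  let s : Finset C := Finset.univ.filter fun x => x ^ Nat.card A = 1
  have h1 : s.card ≤ Nat.card A := IsCyclic.card_pow_eq_one_le Nat.card_pos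
  have h2 : insert (⟨y, hB hy⟩ : C) (Finset.univ.filter fun x : C => (x : G) ∈ A) ⊆ s := by
    intro x hx
    simp only [s, Finset.mem_filter, Finset.mem_univ, true_and]
    rcases Finset.mem_insert.1 hx with rfl | hx
    · exact Subtype.ext (by
        rw [SubmonoidClass.coe_pow, OneMemClass.coe_one, h]
        exact orderOf_dvd_iff_pow_eq_one.1 (B.orderOf_dvd_natCard hy))
    · simp only [Finset.mem_filter, Finset.mem_univ, true_and] at hx
      exact Subtype.ext (by
        rw [SubmonoidClass.coe_pow, OneMemClass.coe_one]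
        exact orderOf_dvd_iff_pow_eq_one.1 (A.orderOf_dvd_natCard hx))
  have h3 := Finset.card_le_card h2
  rw [Finset.card_insert_of_notMem (by simp [hyA])] at h3
  have h4 : (Finset.univ.filter fun x : C => (x : G) ∈ A).card = Nat.card A := by
    rw [← Fintype.card_subtype, ← Nat.card_eq_fintype_card]
    exact Nat.card_congr
      { toFun := fun x => ⟨x.1, x.2⟩
        invFun := fun a => ⟨⟨a.1, hA a.2⟩, a.2⟩
        left_inv := fun _ => rfl
        right_inv := fun _ => rfl }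
  omega

theorem comm_of_cyclic {C : Subgroup G} (hC : IsCyclic C) {a b : G} (ha : a ∈ C) (hb : b ∈ C) :
    a * b = b * a := by
  haveI := hC
  obtain ⟨c, hc⟩ := IsCyclic.exists_zpow_surjective (G := C)
  obtain ⟨i, hi⟩ := hc ⟨a, ha⟩
  obtain ⟨j, hj⟩ := hc ⟨b, hb⟩
  have hi' : (c : G) ^ i = a := congrArg Subtype.val hi
  have hj' : (c : G) ^ j = b := congrArg Subtype.val hj
  rw [← hi', ← hj', ← zpow_add, ← zpow_add, add_comm]

/-- A `p'`-element normalising a cyclic `p`-group and fixing a nontrivial element centralises it. -/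
theorem commute_of_fix [Finite G] {p : ℕ} [hp : Fact p.Prime] {P : Subgroup G} (hP : IsPGroup p P)
    (hcyc : IsCyclic P) {h y : G} (hn : ∀ x ∈ P, h * x * h⁻¹ ∈ P) (hh : ¬ p ∣ orderOf h)
    (hy : y ∈ P) (hy1 : y ≠ 1) (hfix : h * y = y * h) : ∀ x ∈ P, h * x = x * h := by
  haveI := hcyc
  obtain ⟨c, hc⟩ := IsCyclic.exists_monoid_generator (α := P)
  have hmem : ∀ x ∈ P, ∃ j : ℕ, (c : G) ^ j = x := fun x hx => by
    obtain ⟨j, hj⟩ := Submonoid.mem_powers_iff _ _ |>.1 (hc ⟨x, hx⟩)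
    exact ⟨j, congrArg Subtype.val hj⟩
  obtain ⟨r, hr⟩ := hmem _ (hn c c.2)
  obtain ⟨a, ha⟩ := IsPGroup.iff_orderOf.1 hP c
  rw [← orderOf_coe] at ha
  have hpowconj : ∀ m : ℕ, h ^ m * c * (h ^ m)⁻¹ = (c : G) ^ (r ^ m) := by
    intro m
    induction m with
    | zero => simp
    | succ m ih =>
      rw [pow_succ' h, show h * h ^ m * c * (h * h ^ m)⁻¹ = h * (h ^ m * c * (h ^ m)⁻¹) * h⁻¹ by group,
        ih, ← conj_pow, ← hr, ← pow_mul, pow_succ, Nat.mul_comm r]
  have hr1 : (p : ℤ) ∣ (r : ℤ) - 1 := by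
    obtain ⟨j, rfl⟩ := hmem y hy
    have h1 : h * (c : G) ^ j * h⁻¹ = c ^ j := by rw [hfix, mul_inv_cancel_right]
    rw [← conj_pow, ← hr, ← pow_mul, pow_eq_pow_iff_modEq, ha] at h1
    have h2 : (p : ℤ) ^ a ∣ ((r : ℤ) - 1) * j := by
      have := Nat.modEq_iff_dvd.1 h1.symm
      push_cast at this
      rw [show ((r : ℤ) - 1) * j = r * j - j by ring]
      exact this
    by_contra h3
    have h4 : IsCoprime ((p : ℤ) ^ a) ((r : ℤ) - 1) := by
      exact (Nat.prime_iff_prime_int.1 hp.out).coprime_iff_not_dvd.2 h3 |>.pow_left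
    have h5 := h4.dvd_of_dvd_mul_left h2
    rw [← Int.natCast_pow, Int.natCast_dvd_natCast, ← ha] at h5
    exact hy1 (orderOf_dvd_iff_pow_eq_one.1 h5)
  have h1 : (p : ℤ) ^ (a + 1) ∣ (r : ℤ) ^ p ^ a - 1 ^ p ^ a := dvd_sub_pow_of_dvd_sub hr1 a
  rw [one_pow] at h1
  have hpa : h ^ p ^ a * c * (h ^ p ^ a)⁻¹ = c := by
    rw [hpowconj]
    conv_rhs => rw [← pow_one (c : G)]
    rw [pow_eq_pow_iff_modEq, ha]
    refine (Nat.modEq_iff_dvd.2 ?_).symm
    push_cast
    exact dvd_trans (pow_dvd_pow _ a.le_succ) h1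
  have hcop : (p ^ a).Coprime (orderOf h) := Nat.Coprime.pow_left _ (hp.out.coprime_iff_not_dvd.2 hh)
  have hcomm : Commute (h ^ p ^ a) (c : G) := mul_inv_eq_iff_eq_mul.1 hpa
  have hgen : h ∈ zpowers (h ^ p ^ a) := by
    obtain ⟨m, hm⟩ := exists_pow_eq_self_of_coprime hcop
    exact ⟨m, by show (h ^ p ^ a) ^ (m : ℤ) = h; rw [zpow_natCast, hm]⟩
  obtain ⟨m, hm⟩ := hgen
  intro x hx
  obtain ⟨j, rfl⟩ := hmem x hx
  exact ((hm ▸ hcomm.zpow_left m : Commute h (c : G))).pow_right j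

theorem exists_parts [Finite G] (p : ℕ) [hp : Fact p.Prime] (g : G) :
    ∃ a b : G, g = a * b ∧ a ∈ zpowers g ∧ b ∈ zpowers g ∧ IsPGroup p (zpowers a) ∧ ¬ p ∣ orderOf b := by
  obtain ⟨k, m, hm, hkm⟩ := Nat.exists_eq_pow_mul_and_not_dvd (orderOf_pos g).ne' p hp.out.ne_one
  have hcop : (p ^ k).Coprime m := Nat.Coprime.pow_left _ (hp.out.coprime_iff_not_dvd.2 hm)
  obtain ⟨u, v, huv⟩ : ∃ u v : ℤ, u * (p ^ k : ℕ) + v * m = 1 :=
    Int.isCoprime_iff_nat_coprime.2 (by simpa using hcop)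
  refine ⟨g ^ (v * m), g ^ (u * (p ^ k : ℕ)), ?_, ⟨_, rfl⟩, ⟨_, rfl⟩, ?_, ?_⟩
  · rw [← zpow_add, add_comm, huv, zpow_one]
  · have hord : orderOf (g ^ (v * m)) ∣ p ^ k := by
      refine orderOf_dvd_of_pow_eq_one ?_
      rw [← zpow_natCast, ← zpow_mul, show v * m * ((p ^ k : ℕ) : ℤ) = ((p ^ k * m : ℕ) : ℤ) * v by push_cast; ring,
        zpow_mul, zpow_natCast, ← hkm, pow_orderOf_eq_one, one_zpow]
    obtain ⟨i, -, hi⟩ := (Nat.dvd_prime_pow hp.out).1 hord
    exact IsPGroup.of_card (by rw [Nat.card_zpowers, hi])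
  · have hord : orderOf (g ^ (u * (p ^ k : ℕ))) ∣ m := by
      refine orderOf_dvd_of_pow_eq_one ?_
      rw [← zpow_natCast, ← zpow_mul, show u * ((p ^ k : ℕ) : ℤ) * (m : ℤ) = ((p ^ k * m : ℕ) : ℤ) * u by push_cast; ring,
        zpow_mul, zpow_natCast, ← hkm, pow_orderOf_eq_one, one_zpow]
    exact fun hd => hm (hd.trans hord)

theorem card_sup_not_dvd [Finite G] {p : ℕ} [hp : Fact p.Prime] {A B : Subgroup G}
    (hn : ∀ b ∈ B, ∀ a ∈ A, b * a * b⁻¹ ∈ A) (hA : ¬ p ∣ Nat.card A) (hB : ¬ p ∣ Nat.card B) :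
    ¬ p ∣ Nat.card (A ⊔ B : Subgroup G) := by
  intro hd
  obtain ⟨x, hx⟩ := exists_prime_orderOf_dvd_card' (G := (A ⊔ B : Subgroup G)) p hd
  have hle : B ≤ normalizer (A : Set G) := fun b hb => mem_normalizer_iff.2 fun a =>
    ⟨fun ha => hn b hb a ha, fun ha => by simpa [mul_assoc] using hn b⁻¹ (B.inv_mem hb) _ ha⟩
  haveI : (A.subgroupOf (A ⊔ B)).Normal :=
    normal_subgroupOf_of_le_normalizer (sup_le le_normalizer hle)
  let π := QuotientGroup.mk' (A.subgroupOf (A ⊔ B))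
  have hπB : ∀ y : (A ⊔ B : Subgroup G), π y ^ Nat.card B = 1 := by
    intro y
    obtain ⟨a, ha, b, hb, hab⟩ := (show (y : G) ∈ (A : Set G) * (B : Set G) from
      Subgroup.coe_mul_of_right_le_normalizer_left A B hle ▸ y.2)
    have : π y = π ⟨b, le_sup_right (a := A) hb⟩ := by
      refine (QuotientGroup.eq_iff_div_mem).2 ?_
      rw [mem_subgroupOf, div_eq_mul_inv, coe_mul, coe_inv]
      show (y : G) * b⁻¹ ∈ A
      rw [← hab]
      simpa using ha
    rw [this, ← map_pow]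
    refine (QuotientGroup.eq_one_iff _).2 ?_
    rw [mem_subgroupOf, SubmonoidClass.coe_pow]
    rw [orderOf_dvd_iff_pow_eq_one.1 (B.orderOf_dvd_natCard hb)]
    exact A.one_mem
  have h1 : orderOf (π x) ∣ Nat.gcd p (Nat.card B) :=
    Nat.dvd_gcd (hx ▸ orderOf_map_dvd π x) (orderOf_dvd_of_pow_eq_one (hπB x))
  rw [(hp.out.coprime_iff_not_dvd.2 hB).gcd_eq_one, Nat.dvd_one, orderOf_eq_one_iff] at h1
  have h2 : (x : G) ∈ A := mem_subgroupOf.1 ((QuotientGroup.eq_one_iff _).1 h1)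
  exact hA (hx ▸ orderOf_coe x ▸ A.orderOf_dvd_natCard h2)

theorem conj_commute {g a b : G} (h : a * b = b * a) :
    g * a * g⁻¹ * (g * b * g⁻¹) = g * b * g⁻¹ * (g * a * g⁻¹) := by
  rw [show g * a * g⁻¹ * (g * b * g⁻¹) = g * (a * b) * g⁻¹ by group, h]
  group

/-- There is no regular friendship graph of degree at least three. -/
theorem friendship_false {V : Type*} [Finite V] [Nonempty V] (A : V → V → Prop)
    (hsymm : ∀ a b, A a b → A b a) (hirr : ∀ a, ¬ A a a) {k : ℕ} (hk : 3 ≤ k)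
    (hdeg : ∀ a, Nat.card {b // A a b} = k)
    (huniq : ∀ a b, a ≠ b → ∃! c, A a c ∧ A b c) : False := by
  classical
  haveI := Fintype.ofFinite V
  obtain ⟨l, hl, hlk⟩ := Nat.exists_prime_and_dvd (show k - 1 ≠ 1 by omega)
  haveI := Fact.mk hl
  have hk1 : (k : ZMod l) = 1 := by
    have h := (ZMod.natCast_eq_zero_iff (k - 1) l).2 hlk
    rwa [Nat.cast_sub (by omega), Nat.cast_one, sub_eq_zero] at h
  let M : Matrix V V (ZMod l) := fun a b => if A a b then 1 else 0
  let J : Matrix V V (ZMod l) := fun _ _ => 1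
  have hsq : M * M = J := by
    ext a b
    show ∑ c, M a c * M c b = 1
    have : ∀ c, M a c * M c b = if A a c ∧ A b c then 1 else 0 := by
      intro c
      have hiff : A c b ↔ A b c := ⟨hsymm c b, hsymm b c⟩
      simp only [M]
      split_ifs <;> simp_all
    rw [Finset.sum_congr rfl fun c _ => this c, Finset.sum_boole]
    rcases eq_or_ne a b with rfl | hab
    · have : (Finset.univ.filter fun c => A a c ∧ A a c).card = k := by
        rw [← hdeg a, Nat.card_eq_fintype_card, Fintype.card_subtype]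
        simp
      rw [this, hk1]
    · obtain ⟨c, hc, hc'⟩ := huniq a b hab
      rw [show (Finset.univ.filter fun c => A a c ∧ A b c) = {c} from ?_, Finset.card_singleton, Nat.cast_one]
      ext d
      simp only [Finset.mem_filter, Finset.mem_univ, true_and, Finset.mem_singleton]
      exact ⟨hc' d, fun h => h ▸ hc⟩
  have hJM : J * M = J := by
    ext a b
    show ∑ c, (1 : ZMod l) * M c b = 1
    simp only [one_mul, M]
    rw [Finset.sum_boole, ← hk1, ← hdeg b, Nat.card_eq_fintype_card, Fintype.card_subtype]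
    congr 2
    ext c
    simp only [Finset.mem_filter, Finset.mem_univ, true_and]
    exact ⟨hsymm c b, hsymm b c⟩
  have hpow : ∀ m, M ^ (m + 2) = J := by
    intro m
    induction m with
    | zero => rw [zero_add, pow_two, hsq]
    | succ m ih => rw [pow_succ, ih, hJM]
  have h1 : Matrix.trace (M ^ l) = 0 := by
    rw [ZMod.trace_pow_card, show Matrix.trace M = 0 from Finset.sum_eq_zero fun x _ => if_neg (hirr x),
      zero_pow hl.ne_zero]
  obtain ⟨l', hl'⟩ : ∃ l', l = l' + 2 := ⟨l - 2, by have := hl.two_le; omega⟩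
  rw [show M ^ l = M ^ (l' + 2) from congrArg (M ^ ·) hl', hpow, Matrix.trace] at h1
  replace h1 : ∑ _x : V, (1 : ZMod l) = 0 := h1
  rw [Finset.sum_const, Finset.card_univ, nsmul_eq_mul, mul_one] at h1
  -- counting two-step paths from a point
  obtain ⟨a⟩ := ‹Nonempty V›
  have hrow : (Fintype.card V : ZMod l) = 1 := by
    have h2 : ∑ b, (M * M) a b = (k : ZMod l) * k := by
      simp only [Matrix.mul_apply]
      rw [Finset.sum_comm]
      have hr : ∀ c, ∑ b, M c b = (k : ZMod l) := by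
        intro c
        simp only [M]
        rw [Finset.sum_boole, ← hdeg c, Nat.card_eq_fintype_card, Fintype.card_subtype]
      simp only [← Finset.mul_sum, hr]
      rw [← Finset.sum_mul, hr]
    rw [hsq] at h2
    simpa [J, hk1] using h2
  rw [hrow] at h1
  exact one_ne_zero h1

end Cfsg.Agent.GenA.CycPrime
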