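import Mathlib
import Cfsg.Agent.GenA.CycPrime.Basic

/-! The simple case: local facts. -/

set_option autoImplicit false

namespace Cfsg.Agent.GenA.CycPrime

open Subgroup

/-- The two possibilities for a group. -/
def Dich (p : ℕ) (G : Type*) [Group G] : Prop :=
  Cfsg.HasNormalPComplement p G ∨ ∀ P : Sylow p G, (P : Subgroup G).Normal

/-- The configuration of a simple counterexample. -/
structure Ctx (p : ℕ) {G : Type*} [Group G] (P : Sylow p G) : Prop where
  simple : ∀ N : Subgroup G, N.Normal → N = ⊥ ∨ N = ⊤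
  cyc : IsCyclic (P : Subgroup G)
  ab : AbPrime p G
  sub : ∀ X : Subgroup G, X ≠ ⊤ → Dich p X
  nocomp : ¬ Cfsg.HasNormalPComplement p G
  notnormal : ¬ (P : Subgroup G).Normal

variable {G : Type*} [Group G] [Finite G] {p : ℕ} [hp : Fact p.Prime] {P : Sylow p G}

theorem center_eq_bot (hc : Ctx p P) : center G = ⊥ := by
  rcases hc.simple (center G) inferInstance with h | h
  · exact h
  · refine absurd ⟨fun x hx g => ?_⟩ hc.notnormal
    rwa [Subgroup.mem_center_iff.1 (h ▸ mem_top x) g, mul_inv_cancel_right]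

theorem cent_ne_top (hc : Ctx p P) {x : G} (hx : x ≠ 1) : centralizer ({x} : Set G) ≠ ⊤ := by
  intro h
  have : x ∈ center G := Subgroup.mem_center_iff.2 fun g =>
    mem_centralizer_singleton_iff.1 (h ▸ mem_top g)
  rw [center_eq_bot hc, mem_bot] at this
  exact hx this

theorem sylow_ne_bot (hc : Ctx p P) : (P : Subgroup G) ≠ ⊥ := fun h =>
  hc.notnormal (h ▸ normal_bot)

theorem exists_omega (hc : Ctx p P) : ∃ w ∈ (P : Subgroup G), orderOf w = p := by
  haveI : Nontrivial (P : Subgroup G) := (nontrivial_iff_ne_bot _).2 (sylow_ne_bot hc)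
  obtain ⟨k, hk, hcard⟩ := P.2.nontrivial_iff_card.1 inferInstance
  obtain ⟨w, hw⟩ := exists_prime_orderOf_dvd_card' (G := (P : Subgroup G)) p (hcard ▸ dvd_pow_self p (by omega))
  exact ⟨w, w.2, by rw [orderOf_coe, hw]⟩

theorem normalizer_ne_top (hc : Ctx p P) {X : Subgroup G} (h0 : X ≠ ⊥) (h1 : X ≠ ⊤) :
    normalizer (X : Set G) ≠ ⊤ := fun h =>
  (hc.simple X (normalizer_eq_top_iff.1 h)).elim h0 h1

/-- Either a normal abelian `p'`-part or a normal `p`-part. -/
theorem sub_cases (hc : Ctx p P) {X : Subgroup G} (hX : X ≠ ⊤) :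
    (∃ L : Subgroup G, L ≤ X ∧ (∀ g ∈ X, ∀ l ∈ L, g * l * g⁻¹ ∈ L) ∧ ¬ p ∣ Nat.card L ∧
      ∀ x ∈ X, ¬ p ∣ orderOf x → x ∈ L) ∨
    (∃ Q : Subgroup G, Q ≤ X ∧ (∀ g ∈ X, ∀ l ∈ Q, g * l * g⁻¹ ∈ Q) ∧ IsPGroup p Q ∧
      ∀ x ∈ X, IsPGroup p (zpowers x) → x ∈ Q) := by
  rcases hc.sub X hX with h | h
  · left
    obtain ⟨P', N, hN, hc'⟩ := h
    haveI := hN
    refine ⟨N.map X.subtype, map_subtype_le N, ?_, ?_, ?_⟩
    · rintro g hg _ ⟨l, hl, rfl⟩
      exact ⟨⟨g, hg⟩ * l * ⟨g, hg⟩⁻¹, hN.conj_mem l hl _, rfl⟩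
    · rw [card_subtype, ← hc'.index_eq_card]
      exact P'.not_dvd_index
    · intro x hx hord
      refine ⟨⟨x, hx⟩, (Transfer.NormalPComplement.mem_iff_coprime_of_isComplement' hc').2 ?_, rfl⟩
      rw [← orderOf_coe]
      exact (hp.out.coprime_iff_not_dvd.2 hord).symm
  · right
    obtain ⟨Q⟩ := (inferInstance : Nonempty (Sylow p X))
    haveI := h Q
    refine ⟨(Q : Subgroup X).map X.subtype, map_subtype_le _, ?_, Q.2.map _, ?_⟩
    · rintro g hg _ ⟨l, hl, rfl⟩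
      exact ⟨⟨g, hg⟩ * l * ⟨g, hg⟩⁻¹, (h Q).conj_mem l hl _, rfl⟩
    · intro x hx hxp
      have h1 : IsPGroup p (zpowers (⟨x, hx⟩ : X)) := by
        refine (hxp.comap_of_injective X.subtype X.subtype_injective).to_le ?_
        rw [zpowers_le, mem_comap]
        exact mem_zpowers x
      obtain ⟨Q', hQ'⟩ := h1.exists_le_sylow
      have := Sylow.unique_of_normal Q (h Q)
      rw [Subsingleton.elim Q' Q] at hQ'
      exact ⟨⟨x, hx⟩, hQ' (mem_zpowers _), rfl⟩

theorem sylow_comm (hc : Ctx p P) {a b : G} (ha : a ∈ P) (hb : b ∈ P) : a * b = b * a :=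
  comm_of_cyclic hc.cyc ha hb

theorem commute_cases {X : Subgroup G} {Q : Subgroup G} (hdisj : ∀ z ∈ X, z ∈ Q → z = 1) {a b : G}
    (ha : a ∈ X) (hb : b ∈ Q) (h1 : b * a * b⁻¹ ∈ X) (h2 : a * b⁻¹ * a⁻¹ ∈ Q) : a * b = b * a := by
  have h := hdisj (b * a * b⁻¹ * a⁻¹) (X.mul_mem h1 (X.inv_mem ha))
    (by rw [show b * a * b⁻¹ * a⁻¹ = b * (a * b⁻¹ * a⁻¹) by group]; exact Q.mul_mem hb h2)
  rw [mul_inv_eq_one, mul_inv_eq_iff_eq_mul] at h
  exact h.symm

theorem eq_one_of_coprime {X Q : Subgroup G} (hX : ¬ p ∣ Nat.card X) (hQ : IsPGroup p Q) {z : G}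
    (hzX : z ∈ X) (hzQ : z ∈ Q) : z = 1 := by
  obtain ⟨k, hk⟩ := hQ.exists_card_eq
  rw [← orderOf_eq_one_iff]
  exact Nat.eq_one_of_dvd_coprimes (Nat.Coprime.pow_left k (hp.out.coprime_iff_not_dvd.2 hX))
    (hk ▸ Q.orderOf_dvd_natCard hzQ) (X.orderOf_dvd_natCard hzX)

theorem sylow_ne_top (hc : Ctx p P) : (P : Subgroup G) ≠ ⊤ := fun h => hc.notnormal (h ▸ inferInstance)

/-- A `p'`-element normalising `P` and not centralising it exists. -/
theorem exists_noncentral (hc : Ctx p P) :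
    ∃ h ∈ normalizer ((P : Subgroup G) : Set G), ¬ p ∣ orderOf h ∧ ∃ x ∈ P, h * x ≠ x * h := by
  by_contra! hall
  refine hc.nocomp (Transfer.NormalPComplement.hasNormalPComplement_of_normalizer_le_centralizer P ?_)
  intro g hg
  obtain ⟨a, b, hab, ha, hb, hap, hbp⟩ := exists_parts p g
  have haN : a ∈ normalizer ((P : Subgroup G) : Set G) := zpowers_le.2 hg ha
  have hbN : b ∈ normalizer ((P : Subgroup G) : Set G) := zpowers_le.2 hg hb
  have haP : a ∈ P := by
    have hle : zpowers a ≤ normalizer ((P : Subgroup G) : Set G) := zpowers_le.2 haN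
    have hsup : IsPGroup p (zpowers a ⊔ (P : Subgroup G) : Subgroup G) :=
      IsPGroup.to_sup_of_normal_right' hap P.2 hle
    exact (P.3 hsup le_sup_right).le (mem_sup_left (mem_zpowers a))
  refine mem_centralizer_iff.2 fun x hx => ?_
  rw [hab, ← mul_assoc, sylow_comm hc hx haP, mul_assoc, ← hall b hbN hbp x hx, ← mul_assoc]

theorem normalizer_sylow_ne_top (hc : Ctx p P) : normalizer ((P : Subgroup G) : Set G) ≠ ⊤ :=
  normalizer_ne_top hc (sylow_ne_bot hc) (sylow_ne_top hc)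

theorem omega_unique (hc : Ctx p P) {w : G} (hwP : w ∈ P) (hw : orderOf w = p) {a : G}
    (ha : a ∈ P) (hao : orderOf a = p) : a ∈ zpowers w := by
  have := eq_of_card_eq hc.cyc (zpowers_le.2 hwP) (zpowers_le.2 ha)
    (by rw [Nat.card_zpowers, Nat.card_zpowers, hw, hao])
  exact this ▸ mem_zpowers a

theorem normalizer_omega (hc : Ctx p P) {w : G} (hwP : w ∈ P) (hw : orderOf w = p) :
    normalizer (zpowers w : Set G) ≤ normalizer ((P : Subgroup G) : Set G) := by
  have hw1 : w ≠ 1 := fun h => hp.out.ne_one (by rw [← hw, h, orderOf_one])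
  have hne : normalizer (zpowers w : Set G) ≠ ⊤ := by
    refine normalizer_ne_top hc (zpowers_ne_bot.2 hw1) fun h => sylow_ne_top hc ?_
    exact eq_top_iff.2 (h ▸ zpowers_le.2 hwP)
  have hNN : normalizer ((P : Subgroup G) : Set G) ≤ normalizer (zpowers w : Set G) := by
    intro g hg
    rw [mem_normalizer_iff]
    have key : ∀ g ∈ normalizer ((P : Subgroup G) : Set G), ∀ x ∈ zpowers w, g * x * g⁻¹ ∈ zpowers w := by
      intro g hg x hx
      obtain ⟨i, rfl⟩ := hx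
      have : g * w * g⁻¹ ∈ zpowers w := omega_unique hc hwP hw ((mem_normalizer_iff.1 hg w).1 hwP)
        (((MulAut.conj g).orderOf_eq w).trans hw)
      show g * w ^ i * g⁻¹ ∈ zpowers w
      rw [← conj_zpow]
      exact zpow_mem this i
    refine fun x => ⟨key g hg x, fun hx => ?_⟩
    simpa [mul_assoc] using key g⁻¹ (inv_mem hg) _ hx
  rcases sub_cases hc hne with ⟨L, hL, hLn, hLc, hLm⟩ | ⟨Q, hQ, hQn, hQp, hQm⟩
  · exfalso
    obtain ⟨h, hh, hho, x, hx, hne'⟩ := exists_noncentral hc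
    refine hne' (commute_cases (fun z hzL hzP => eq_one_of_coprime hLc P.2 hzL hzP)
      (hLm h (hNN hh) hho) hx (hLn x (hNN (le_normalizer hx)) h (hLm h (hNN hh) hho)) ?_)
    exact (mem_normalizer_iff.1 hh _).1 (inv_mem hx)
  · have hPQ : (P : Subgroup G) ≤ Q := fun x hx =>
      hQm x (hNN (le_normalizer hx)) (P.2.to_le (zpowers_le.2 hx))
    have hQP : Q = P := P.3 hQp hPQ
    intro g hg
    rw [mem_normalizer_iff]
    refine fun x => ⟨fun hx => ?_, fun hx => ?_⟩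
    · exact hQP ▸ hQn g hg x (hQP.symm ▸ hx)
    · have := hQn g⁻¹ (inv_mem hg) _ (hQP.symm ▸ hx)
      rw [hQP] at this
      simpa [mul_assoc] using this

/-- `P` is a TI subgroup. -/
theorem mem_normalizer_of_meet (hc : Ctx p P) {y g : G} (hy : y ∈ P) (hy1 : y ≠ 1)
    (hg : g * y * g⁻¹ ∈ P) : g ∈ normalizer ((P : Subgroup G) : Set G) := by
  obtain ⟨k, hk⟩ := (Nat.dvd_prime_pow hp.out).1
    (P.2.exists_card_eq.choose_spec ▸ (P : Subgroup G).orderOf_dvd_natCard hy) |>.imp fun _ h => h.2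
  have hk0 : k ≠ 0 := by
    rintro rfl
    exact hy1 (orderOf_eq_one_iff.1 (by rw [hk, pow_zero]))
  set w := y ^ p ^ (k - 1) with hwdef
  have hwP : w ∈ P := pow_mem hy _
  have hw : orderOf w = p := by
    rw [hwdef, orderOf_pow_of_dvd (pow_ne_zero _ hp.out.ne_zero) (hk ▸ pow_dvd_pow p (Nat.sub_le k 1)), hk,
      Nat.pow_div (Nat.sub_le k 1) hp.out.pos, show k - (k - 1) = 1 by omega, pow_one]
  refine normalizer_omega hc hwP hw ?_
  rw [mem_normalizer_iff]
  have h1 : g * w * g⁻¹ ∈ zpowers w := omega_unique hc hwP hw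
    (by rw [hwdef, ← conj_pow]; exact pow_mem hg _)
    (((MulAut.conj g).orderOf_eq w).trans hw)
  have hmap : (zpowers w).map (MulAut.conj g).toMonoidHom = zpowers w := by
    refine eq_of_le_of_card_ge ?_ (card_map_of_injective (MulAut.conj g).injective).ge
    rw [MonoidHom.map_zpowers, zpowers_le]
    exact h1
  intro x
  refine ⟨fun hx => hmap ▸ ⟨x, hx, rfl⟩, fun hx => ?_⟩
  obtain ⟨z, hz, hzx⟩ := (show g * x * g⁻¹ ∈ (zpowers w).map (MulAut.conj g).toMonoidHom from hmap.symm ▸ hx)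
  exact ((MulAut.conj g).injective (show MulAut.conj g z = MulAut.conj g x from hzx)) ▸ hz

theorem mem_sylow_of_mem_normalizer {a : G} (ha : a ∈ normalizer ((P : Subgroup G) : Set G))
    (hap : IsPGroup p (zpowers a)) : a ∈ P :=
  (P.3 (IsPGroup.to_sup_of_normal_right' hap P.2 (zpowers_le.2 ha)) le_sup_right).le
    (mem_sup_left (mem_zpowers a))

theorem exists_conj_mem {y : G} (hy : IsPGroup p (zpowers y)) : ∃ g : G, g * y * g⁻¹ ∈ P := by
  obtain ⟨Q, hQ⟩ := hy.exists_le_sylow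
  obtain ⟨g, hg⟩ := MulAction.exists_smul_eq G Q P
  refine ⟨g, ?_⟩
  rw [← hg]
  exact ⟨y, hQ (mem_zpowers y), rfl⟩

/-- An abelian complement of `P` in its normaliser. -/
theorem exists_hall (hc : Ctx p P) :
    ∃ H : Subgroup G, H ≤ normalizer ((P : Subgroup G) : Set G) ∧ ¬ p ∣ Nat.card H ∧
      Nat.card (normalizer ((P : Subgroup G) : Set G)) = Nat.card (P : Subgroup G) * Nat.card H ∧
      (∀ g ∈ normalizer ((P : Subgroup G) : Set G), ∃ a ∈ P, ∃ h ∈ H, g = a * h) ∧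
      (∀ a ∈ H, ∀ b ∈ H, a * b = b * a) := by
  set N := normalizer ((P : Subgroup G) : Set G) with hN
  let P' : Sylow p N := P.subtype le_normalizer
  haveI hn : (P' : Subgroup N).Normal := normal_subgroupOf_of_le_normalizer le_rfl
  obtain ⟨H₀, hH₀⟩ := exists_right_complement'_of_coprime P'.card_coprime_index
  have hcard : Nat.card H₀ = (P' : Subgroup N).index := hH₀.symm.index_eq_card.symm
  have hH : ¬ p ∣ Nat.card (H₀.map N.subtype) := by
    rw [card_subtype, hcard]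
    exact P'.not_dvd_index
  refine ⟨H₀.map N.subtype, map_subtype_le _, hH, ?_, ?_, hc.ab _ hH⟩
  · rw [card_subtype, ← hH₀.card_mul]
    congr 1
    exact Nat.card_congr (subgroupOfEquivOfLe le_normalizer).toEquiv
  · intro g hg
    obtain ⟨⟨a, h⟩, hah⟩ := hH₀.2 ⟨g, hg⟩
    exact ⟨(a : N), mem_subgroupOf.1 a.2, (h : N), ⟨h, h.2, rfl⟩, congrArg Subtype.val hah.symm⟩

end Cfsg.Agent.GenA.CycPrime
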