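import Mathlib
import Cfsg.Agent.GenA.CycPrime.Setup

/-! The simple case: a nontrivial element centralising the Sylow subgroup. -/

set_option autoImplicit false

namespace Cfsg.Agent.GenA.CycPrime

open Subgroup

variable {G : Type*} [Group G] [Finite G] {p : ℕ} [hp : Fact p.Prime] {P : Sylow p G}

theorem mem_normalizer_of_commute (hc : Ctx p P) {y g : G} (hy : y ∈ P) (hy1 : y ≠ 1)
    (h : g * y = y * g) : g ∈ normalizer ((P : Subgroup G) : Set G) :=
  mem_normalizer_of_meet hc hy hy1 (by rwa [h, mul_inv_cancel_right])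

/-- The data of a complement of `P` in its normaliser. -/
structure Hall (p : ℕ) (P : Sylow p G) (H : Subgroup G) : Prop where
  le : H ≤ normalizer ((P : Subgroup G) : Set G)
  prime' : ¬ p ∣ Nat.card H
  card : Nat.card (normalizer ((P : Subgroup G) : Set G)) = Nat.card (P : Subgroup G) * Nat.card H
  dec : ∀ g ∈ normalizer ((P : Subgroup G) : Set G), ∃ a ∈ P, ∃ h ∈ H, g = a * h
  comm : ∀ a ∈ H, ∀ b ∈ H, a * b = b * a

theorem Hall.conj_mem {H : Subgroup G} (hH : Hall p P H) {h x : G} (hh : h ∈ H) (hx : x ∈ P) :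
    h * x * h⁻¹ ∈ P :=
  (mem_normalizer_iff.1 (hH.le hh) x).1 hx

theorem Hall.not_dvd_orderOf {H : Subgroup G} (hH : Hall p P H) {h : G} (hh : h ∈ H) :
    ¬ p ∣ orderOf h := fun hd => hH.prime' (hd.trans (H.orderOf_dvd_natCard hh))

theorem Hall.card_dvd {H X : Subgroup G} (hH : Hall p P H)
    (hX : X ≤ normalizer ((P : Subgroup G) : Set G)) (hXp : ¬ p ∣ Nat.card X) :
    Nat.card X ∣ Nat.card H := by
  obtain ⟨k, hk⟩ := P.2.exists_card_eq
  have h1 := Subgroup.card_dvd_of_le hX
  rw [hH.card, hk] at h1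
  exact (Nat.Coprime.pow_right k (hp.out.coprime_iff_not_dvd.2 hXp).symm).dvd_of_dvd_mul_left h1

/-- An element of `H` centralising a nontrivial element of `P` centralises `P`. -/
theorem Hall.central_of_fix {H : Subgroup G} (hc : Ctx p P) (hH : Hall p P H) {h y : G}
    (hh : h ∈ H) (hy : y ∈ P) (hy1 : y ≠ 1) (hfix : h * y = y * h) : ∀ x ∈ P, h * x = x * h :=
  commute_of_fix P.2 hc.cyc (fun _ hx => hH.conj_mem hh hx) (hH.not_dvd_orderOf hh) hy hy1 hfix

theorem Hall.exists_noncentral {H : Subgroup G} (hc : Ctx p P) (hH : Hall p P H) :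
    ∃ h ∈ H, ∃ x ∈ P, h * x ≠ x * h := by
  by_contra! hall
  obtain ⟨g, hg, -, x, hx, hne⟩ := CycPrime.exists_noncentral hc
  obtain ⟨a, ha, h, hh, rfl⟩ := hH.dec g hg
  refine hne ?_
  rw [mul_assoc, hall h hh x hx, ← mul_assoc, sylow_comm hc ha hx, mul_assoc]

/-- The kernel of the action on `P`. -/
def kern (P : Sylow p G) (H : Subgroup G) (x : G) : Prop := x ∈ H ∧ ∀ a ∈ P, x * a = a * x

theorem cent_kern (hc : Ctx p P) {H : Subgroup G} (hH : Hall p P H) {x : G} (hx : kern P H x)
    (hx1 : x ≠ 1) : centralizer ({x} : Set G) = normalizer ((P : Subgroup G) : Set G) := by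
  set C := centralizer ({x} : Set G)
  have hge : normalizer ((P : Subgroup G) : Set G) ≤ C := by
    intro g hg
    obtain ⟨a, ha, h, hh, rfl⟩ := hH.dec g hg
    exact C.mul_mem (mem_centralizer_singleton_iff.2 (hx.2 a ha).symm)
      (mem_centralizer_singleton_iff.2 (hH.comm h hh x hx.1))
  refine le_antisymm ?_ hge
  rcases sub_cases hc (cent_ne_top hc hx1) with ⟨L, hL, hLn, hLc, hLm⟩ | ⟨Q, hQ, hQn, hQp, hQm⟩
  · obtain ⟨h, hh, a, ha, hne⟩ := hH.exists_noncentral hc
    have hhL : h ∈ L := hLm h (hge (hH.le hh)) (hH.not_dvd_orderOf hh)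
    exact absurd (commute_cases (fun z hzL hzP => eq_one_of_coprime hLc P.2 hzL hzP) hhL ha
      (hLn a (hge (le_normalizer ha)) h hhL) (hH.conj_mem hh (inv_mem ha))) hne
  · have hPQ : (P : Subgroup G) ≤ Q := fun a ha =>
      hQm a (hge (le_normalizer ha)) (P.2.to_le (zpowers_le.2 ha))
    have hQP : Q = P := P.3 hQp hPQ
    intro g hg
    obtain ⟨w, hwP, hw⟩ := exists_omega hc
    have hw1 : w ≠ 1 := fun h => hp.out.ne_one (by rw [← hw, h, orderOf_one])
    exact mem_normalizer_of_meet hc hwP hw1 (hQP.le (hQn g hg w (hQP.ge hwP)))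

theorem Hall.mem_sylow {H : Subgroup G} (hH : Hall p P H) {g : G}
    (hg : g ∈ normalizer ((P : Subgroup G) : Set G)) (hgp : IsPGroup p (zpowers g)) : g ∈ P :=
  mem_sylow_of_mem_normalizer hg hgp

/-- Only one conjugate of `kern` elements meets `kern`. -/
theorem mem_normalizer_of_kern_conj (hc : Ctx p P) {H : Subgroup G} (hH : Hall p P H) {y g : G}
    (hy : kern P H y) (hy1 : y ≠ 1) (hg : kern P H (g * y * g⁻¹)) :
    g ∈ normalizer ((P : Subgroup G) : Set G) := by
  obtain ⟨w, hwP, hw⟩ := exists_omega hc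
  have hw1 : w ≠ 1 := fun h => hp.out.ne_one (by rw [← hw, h, orderOf_one])
  have hne : g * y * g⁻¹ ≠ 1 := fun h => hy1 (conj_eq_one_iff.1 h)
  have h1 : g * w * g⁻¹ ∈ centralizer ({g * y * g⁻¹} : Set G) :=
    mem_centralizer_singleton_iff.2 (conj_commute (hy.2 w hwP).symm)
  rw [cent_kern hc hH hg hne] at h1
  refine mem_normalizer_of_meet hc hwP hw1 (hH.mem_sylow h1 ?_)
  refine IsPGroup.of_card (n := 1) ?_
  rw [Nat.card_zpowers, pow_one, show g * w * g⁻¹ = MulAut.conj g w from rfl, MulEquiv.orderOf_eq, hw]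

/-- The action of `H` on the subgroup of order `p`. -/
theorem exists_char (hc : Ctx p P) {H : Subgroup G} (hH : Hall p P H) :
    ∃ χ : H →* (ZMod p)ˣ, ∀ h : H, χ h = 1 ↔ kern P H (h : G) := by
  obtain ⟨w, hwP, hw⟩ := exists_omega hc
  have hw1 : w ≠ 1 := fun h => hp.out.ne_one (by rw [← hw, h, orderOf_one])
  have hr : ∀ h : H, ∃ r : ZMod p, w ^ r.val = (h : G) * w * (h : G)⁻¹ := by
    intro h
    obtain ⟨i, hi⟩ := omega_unique hc hwP hw (hH.conj_mem h.2 hwP)
      (((MulAut.conj (h : G)).orderOf_eq w).trans hw)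
    refine ⟨(i : ZMod p), ?_⟩
    rw [← hi]
    show w ^ (i : ZMod p).val = w ^ i
    rw [← zpow_natCast, zpow_eq_zpow_iff_modEq, hw, ← ZMod.intCast_eq_intCast_iff, Int.cast_natCast,
      ZMod.natCast_zmod_val]
  choose r hr using hr
  have huniq : ∀ a b : ZMod p, w ^ a.val = w ^ b.val → a = b := by
    intro a b h
    rw [pow_eq_pow_iff_modEq, hw, ← ZMod.natCast_eq_natCast_iff, ZMod.natCast_zmod_val,
      ZMod.natCast_zmod_val] at h
    exact h
  let f : H →* ZMod p :=
    { toFun := r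
      map_one' := huniq _ _ (by rw [hr, ZMod.val_one, pow_one]; simp)
      map_mul' := fun a b => huniq _ _ (by
        have hpm : ∀ n : ℕ, w ^ (n % p) = w ^ n := fun n => by
          have := pow_mod_orderOf w n
          rwa [hw] at this
        rw [hr, ZMod.val_mul, hpm, pow_mul, hr, conj_pow, hr, Subgroup.coe_mul]
        group) }
  refine ⟨f.toHomUnits, fun h => ?_⟩
  rw [Units.ext_iff, MonoidHom.coe_toHomUnits, Units.val_one]
  constructor
  · intro h1
    refine ⟨h.2, hH.central_of_fix hc h.2 hwP hw1 ?_⟩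
    have := hr h
    rw [show r h = 1 from h1, ZMod.val_one, pow_one] at this
    exact (mul_inv_eq_iff_eq_mul.1 this.symm)
  · intro hk
    refine huniq _ _ ?_
    show w ^ (r h).val = w ^ (1 : ZMod p).val
    rw [hr, ZMod.val_one, pow_one, hk.2 w hwP, mul_inv_cancel_right]

/-- The subgroup `C_H(P)`. -/
def kernSubgroup (P : Sylow p G) (H : Subgroup G) : Subgroup G :=
  H ⊓ centralizer ((P : Subgroup G) : Set G)

theorem mem_kernSubgroup {H : Subgroup G} {x : G} : x ∈ kernSubgroup P H ↔ kern P H x :=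
  ⟨fun h => ⟨h.1, fun a ha => (mem_centralizer_iff.1 h.2 a ha).symm⟩,
    fun h => ⟨h.1, mem_centralizer_iff.2 fun a ha => (h.2 a ha).symm⟩⟩

theorem conj_pow_mul (u y : G) (n : ℕ) : u ^ n * y * (u ^ n)⁻¹ = (MulAut.conj (u ^ n)) y := rfl

/-- For each prime dividing `C_H(P)`, a `p`-element normalising `H` and moving `C_H(P)`. -/
theorem kern_prime (hc : Ctx p P) {H : Subgroup G} (hH : Hall p P H) {x : G} (hx : kern P H x)
    {r : ℕ} [hr : Fact r.Prime] (hxr : orderOf x = r) (hp2 : p ≠ 2) :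
    r = 2 ∧ p = 3 ∧ Nat.card (kernSubgroup P H) ∣ p - 1 ∧
    (∀ R : Sylow r G, x ∈ R → Nat.card (R : Subgroup G) ∣ Nat.card H) ∧
    ∃ u : G, (∀ h ∈ H, u * h * u⁻¹ ∈ H) ∧
      ∀ i < p, i ≠ 0 → u ^ i ∉ normalizer ((P : Subgroup G) : Set G) := by
  classical
  have hx1 : x ≠ 1 := fun h => hr.out.ne_one (by rw [← hxr, h, orderOf_one])
  have hrH : r ∣ Nat.card H := hxr ▸ H.orderOf_dvd_natCard hx.1
  have hrp : r ≠ p := fun h => hH.prime' (h ▸ hrH)
  have hsylH : ∀ R : Sylow r G, x ∈ R → Nat.card (R : Subgroup G) ∣ Nat.card H := by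
    intro R hxR
    have hR : ¬ p ∣ Nat.card (R : Subgroup G) := by
      obtain ⟨k, hk⟩ := R.2.exists_card_eq
      rw [hk]
      exact fun h => hrp ((Nat.prime_dvd_prime_iff_eq hp.out hr.out).1 (hp.out.dvd_of_dvd_pow h)).symm
    refine hH.card_dvd ?_ hR
    rw [← cent_kern hc hH hx hx1]
    exact fun a ha => mem_centralizer_singleton_iff.2 (hc.ab _ hR a ha x hxR)
  -- a Sylow `r`-subgroup inside `H`
  obtain ⟨R₁⟩ := (inferInstance : Nonempty (Sylow r H))
  set R : Subgroup G := (R₁ : Subgroup H).map H.subtype with hRdef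
  have hRH : R ≤ H := map_subtype_le _
  have hRr : IsPGroup r R := R₁.2.map _
  obtain ⟨S, hRS⟩ := hRr.exists_le_sylow
  obtain ⟨Sx, hSx⟩ := (show IsPGroup r (zpowers x) from
    IsPGroup.of_card (n := 1) (by rw [Nat.card_zpowers, hxr, pow_one])).exists_le_sylow
  have hRS' : R = S := by
    refine eq_of_le_of_card_ge hRS ?_
    have h1 : Nat.card (S : Subgroup G) ∣ Nat.card H := by
      rw [S.card_eq_multiplicity, ← Sx.card_eq_multiplicity]
      exact hsylH Sx (hSx (mem_zpowers x))
    rw [card_subtype, R₁.card_eq_multiplicity]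
    rw [S.card_eq_multiplicity] at h1 ⊢
    exact Nat.le_of_dvd (pow_pos hr.out.pos _) (pow_dvd_pow r
      ((hr.out.pow_dvd_iff_le_factorization Nat.card_pos.ne').1 h1))
  have hxR : x ∈ R := by
    haveI : (R₁ : Subgroup H).Normal := by
      refine ⟨fun a ha g => ?_⟩
      have : g * a * g⁻¹ = a := Subtype.ext (by
        push_cast
        rw [hH.comm g g.2 a a.2, mul_inv_cancel_right])
      rwa [this]
    haveI := Sylow.unique_of_normal R₁ inferInstance
    have hxp : IsPGroup r (zpowers (⟨x, hx.1⟩ : H)) :=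
      IsPGroup.of_card (n := 1) (by rw [Nat.card_zpowers, ← orderOf_coe, hxr, pow_one])
    obtain ⟨R₂, hR₂⟩ := hxp.exists_le_sylow
    rw [Subsingleton.elim R₂ R₁] at hR₂
    exact ⟨_, hR₂ (mem_zpowers _), rfl⟩
  have hRp : ¬ p ∣ Nat.card R := fun h => hH.prime' (h.trans (card_dvd_of_le hRH))
  have hRne : R ≠ ⊥ := fun h => hx1 (mem_bot.1 (h ▸ hxR))
  have hRtop : R ≠ ⊤ := fun h => normalizer_sylow_ne_top hc
    (eq_top_iff.2 (h ▸ hRH.trans hH.le))
  -- Burnside for `R`
  obtain ⟨g, hg, hgc⟩ : ∃ g ∈ normalizer ((S : Subgroup G) : Set G), g ∉ centralizer ((S : Subgroup G) : Set G) := by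
    by_contra! hle
    obtain ⟨S', K, hK, hK'⟩ :=
      Transfer.NormalPComplement.hasNormalPComplement_of_normalizer_le_centralizer S hle
    have hrK : ¬ r ∣ Nat.card K := hK'.index_eq_card ▸ S'.not_dvd_index
    rcases hc.simple K hK with h | h
    · subst h
      have : (S' : Subgroup G) = ⊤ := isComplement'_bot_left.1 hK'
      have hG : IsPGroup r G := by
        have h2 : IsPGroup r (⊤ : Subgroup G) := this ▸ S'.2
        exact h2.of_equiv Subgroup.topEquiv
      obtain ⟨w, hwP, hw⟩ := exists_omega hc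
      obtain ⟨j, hj⟩ := IsPGroup.iff_orderOf.1 hG w
      exact hrp ((Nat.prime_dvd_prime_iff_eq hp.out hr.out).1
        (hp.out.dvd_of_dvd_pow (by rw [← hj, hw]))).symm
    · exact hrK (h ▸ (card_top (G := G)).symm ▸ hrH.trans H.card_subgroup_dvd_card)
  rw [← hRS'] at hg hgc
  obtain ⟨a, b, hab, ha, hb, hap, hbp⟩ := exists_parts p g
  have haN : a ∈ normalizer (R : Set G) := zpowers_le.2 hg ha
  have hbN : b ∈ normalizer (R : Set G) := zpowers_le.2 hg hb
  have hbC : b ∈ centralizer (R : Set G) := by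
    refine mem_centralizer_iff.2 fun y hy => ?_
    refine hc.ab (R ⊔ zpowers b) (card_sup_not_dvd ?_ hRp (by rwa [Nat.card_zpowers]))
      y (mem_sup_left hy) b (mem_sup_right (mem_zpowers b))
    exact fun c hcb z hz => (mem_normalizer_iff.1 (zpowers_le.2 hbN hcb) z).1 hz
  have haC : a ∉ centralizer (R : Set G) := fun h => hgc (hab ▸ mul_mem h hbC)
  obtain ⟨y, hy, hay⟩ : ∃ y ∈ R, a * y ≠ y * a := by
    by_contra! h
    exact haC (mem_centralizer_iff.2 fun y hy => (h y hy).symm)
  -- `a` normalises `H`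
  have haH : ∀ h ∈ H, a * h * a⁻¹ ∈ H := by
    rcases sub_cases hc (normalizer_ne_top hc hRne hRtop) with ⟨L, hL, hLn, hLc, hLm⟩ | ⟨Q, hQ, hQn, hQp, hQm⟩
    · have hHL : H ≤ L := fun h hh => hLm h (by
        rw [mem_normalizer_iff]
        intro z
        refine ⟨fun hz => ?_, fun hz => ?_⟩
        · rwa [hH.comm h hh z (hRH hz), mul_inv_cancel_right]
        · have h3 : z = h * z * h⁻¹ := by
            conv_lhs => rw [show z = h⁻¹ * (h * z * h⁻¹) * h by group]
            rw [hH.comm _ (H.inv_mem hh) _ (hRH hz), inv_mul_cancel_right]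
          exact h3.symm ▸ hz) (hH.not_dvd_orderOf hh)
      have hLH : L = H := by
        refine (eq_of_le_of_card_ge hHL (Nat.le_of_dvd Nat.card_pos (hH.card_dvd ?_ hLc))).symm
        rw [← cent_kern hc hH hx hx1]
        exact fun l hl => mem_centralizer_singleton_iff.2 (hc.ab L hLc l hl x (hHL hx.1))
      exact fun h hh => hLH.le (hLn a haN h (hLH.ge hh))
    · refine absurd (commute_cases (fun z hzR hzQ => eq_one_of_coprime hRp hQp hzR hzQ) hy
        (hQm a haN hap) ((mem_normalizer_iff.1 haN y).1 hy) ?_).symm hay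
      exact hQn y (le_normalizer hy) _ (inv_mem (hQm a haN hap))
  have haP : a ∉ normalizer ((P : Subgroup G) : Set G) := by
    intro h
    have haP := hH.mem_sylow h hap
    refine hay (commute_cases (fun z hzH hzP => eq_one_of_coprime hH.prime' P.2 hzH hzP) (hRH hy) haP
      (haH y (hRH hy)) (hH.conj_mem (hRH hy) (inv_mem haP))).symm
  -- a suitable power
  obtain ⟨k, hk⟩ := IsPGroup.iff_orderOf.1 hap ⟨a, mem_zpowers a⟩
  rw [orderOf_mk] at hk
  have hex : ∃ j, a ^ p ^ j ∈ normalizer ((P : Subgroup G) : Set G) :=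
    ⟨k, by rw [← hk, pow_orderOf_eq_one]; exact one_mem _⟩
  set j := Nat.find hex with hjdef
  have hj0 : j ≠ 0 := by
    intro h0
    have := Nat.find_spec hex
    rw [← hjdef, h0, pow_zero, pow_one] at this
    exact haP this
  set u := a ^ p ^ (j - 1) with hu
  have hu1 : u ∉ normalizer ((P : Subgroup G) : Set G) := Nat.find_min hex (by omega)
  have hup : u ^ p ∈ normalizer ((P : Subgroup G) : Set G) := by
    rw [hu, ← pow_mul, ← pow_succ, show j - 1 + 1 = j by omega]
    exact Nat.find_spec hex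
  have huH : ∀ n : ℕ, ∀ h ∈ H, u ^ n * h * (u ^ n)⁻¹ ∈ H := by
    have key : ∀ n : ℕ, ∀ h ∈ H, a ^ n * h * (a ^ n)⁻¹ ∈ H := by
      intro n
      induction n with
      | zero => simp
      | succ n ih =>
        intro h hh
        rw [pow_succ', show a * a ^ n * h * (a * a ^ n)⁻¹ = a * (a ^ n * h * (a ^ n)⁻¹) * a⁻¹ by group]
        exact haH _ (ih h hh)
    intro n h hh
    rw [hu, ← pow_mul]
    exact key _ h hh
  have hui : ∀ i < p, i ≠ 0 → u ^ i ∉ normalizer ((P : Subgroup G) : Set G) := by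
    intro i hi hi0 hmem
    refine hu1 ?_
    obtain ⟨s, t, hst⟩ : ∃ s t : ℤ, s * i + t * p = 1 :=
      Int.isCoprime_iff_nat_coprime.2 (by simpa using
        ((hp.out.coprime_iff_not_dvd).2 (fun h => absurd (Nat.le_of_dvd (by omega) h) (by omega))).symm)
    rw [← zpow_one u, ← hst, zpow_add, mul_comm s, mul_comm t, zpow_mul, zpow_mul, zpow_natCast, zpow_natCast]
    exact mul_mem (zpow_mem hmem _) (zpow_mem hup _)
  -- the character
  obtain ⟨χ, hχ⟩ := exists_char hc hH
  set K := kernSubgroup P H with hK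
  let ι : K →* H :=
    { toFun := fun y => ⟨u ^ 1 * y * (u ^ 1)⁻¹, huH 1 y y.2.1⟩
      map_one' := Subtype.ext (by simp)
      map_mul' := fun y z => Subtype.ext (by simp only [Subgroup.coe_mul]; group) }
  have hψ : Function.Injective (χ.comp ι) := by
    rw [injective_iff_map_eq_one]
    intro y hy
    by_contra hy1
    refine hu1 (mem_normalizer_of_kern_conj hc hH (mem_kernSubgroup.1 y.2) (fun h => hy1 (Subtype.ext h)) ?_)
    have h2 := (hχ (ι y)).1 hy
    show kern P H (u * y * u⁻¹)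
    simpa [ι] using h2
  have hcyc : IsCyclic K := isCyclic_of_injective (χ.comp ι) hψ
  have hKdvd : Nat.card K ∣ p - 1 := by
    rw [← ZMod.card_units p, ← Nat.card_eq_fintype_card]
    exact Subgroup.card_dvd_of_injective _ hψ
  have hrd : r ∣ p - 1 := (hxr ▸ K.orderOf_dvd_natCard (mem_kernSubgroup.2 hx)).trans hKdvd
  -- counting in the `r`-torsion of `H`
  let A : Subgroup H :=
    { carrier := {h | h ^ r = 1}
      one_mem' := one_pow r
      mul_mem' := fun {a b} ha hb => by
        show (a * b) ^ r = 1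
        rw [(show Commute a b from Subtype.ext (hH.comm a a.2 b b.2)).mul_pow, ha, hb, one_mul]
      inv_mem' := fun {a} ha => by show a⁻¹ ^ r = 1; rw [inv_pow, ha, inv_one] }
  have hA : Nat.card A ≤ r * r := by
    let φ := χ.comp A.subtype
    rw [← Subgroup.card_mul_index φ.ker, Subgroup.index_ker]
    refine Nat.mul_le_mul ?_ ?_
    · haveI := hcyc
      let e : φ.ker → {z : K // z ^ r = 1} := fun z =>
        ⟨⟨((z : A) : H), mem_kernSubgroup.2 ((hχ _).1 z.2)⟩,
          Subtype.ext (by have := congrArg Subtype.val (z : A).2; simpa using this)⟩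
      refine (Nat.card_le_card_of_injective e ?_).trans ?_
      · intro z z' h
        have := congrArg (fun w : {z : K // z ^ r = 1} => ((w : K) : G)) h
        exact Subtype.ext (Subtype.ext (Subtype.ext this))
      · haveI := Fintype.ofFinite K
        rw [Nat.card_eq_fintype_card, Fintype.card_subtype]
        exact IsCyclic.card_pow_eq_one_le hr.out.pos
    · let e : φ.range → {z : (ZMod p)ˣ // z ^ r = 1} := fun z => ⟨z, by
        obtain ⟨w, hw⟩ := z.2
        rw [← hw, ← map_pow, show (w : A) ^ r = 1 from Subtype.ext w.2, map_one]⟩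
      refine (Nat.card_le_card_of_injective e ?_).trans ?_
      · intro z z' h
        exact Subtype.ext (congrArg (fun w : {z : (ZMod p)ˣ // z ^ r = 1} => (w : (ZMod p)ˣ)) h)
      · rw [Nat.card_eq_fintype_card, Fintype.card_subtype]
        exact IsCyclic.card_pow_eq_one_le hr.out.pos
  have hB : p * (r - 1) + 1 ≤ Nat.card A := by
    let T := Fin p × {y : zpowers x // y ≠ 1}
    let f : Option T → A := fun o => match o with
      | none => 1
      | some (i, y) => ⟨⟨u ^ (i : ℕ) * (y.1 : G) * (u ^ (i : ℕ))⁻¹, huH i _ (zpowers_le.2 hx.1 y.1.2)⟩, by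
          refine Subtype.ext ?_
          show (u ^ (i : ℕ) * (y.1 : G) * (u ^ (i : ℕ))⁻¹) ^ r = 1
          rw [conj_pow, show ((y.1 : G)) ^ r = 1 from hxr ▸ ?_, mul_one, mul_inv_cancel]
          obtain ⟨n, hn⟩ := y.1.2
          rw [← hn]
          show (x ^ n) ^ orderOf x = 1
          rw [← zpow_natCast, ← zpow_mul, mul_comm, zpow_mul, zpow_natCast, pow_orderOf_eq_one, one_zpow]⟩
    have hf : Function.Injective f := by
      have hne1 : ∀ (i : Fin p) (y : {y : zpowers x // y ≠ 1}), f (some (i, y)) ≠ 1 := by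
        intro i y h
        have := congrArg (fun z : A => ((z : H) : G)) h
        exact y.2 (Subtype.ext (conj_eq_one_iff.1 (show u ^ (i : ℕ) * (y.1 : G) * (u ^ (i : ℕ))⁻¹ = 1 from this)))
      rintro (_ | ⟨i, y⟩) (_ | ⟨i', y'⟩) h
      · rfl
      · exact absurd h.symm (hne1 i' y')
      · exact absurd h (hne1 i y)
      · have heq : u ^ (i : ℕ) * (y.1 : G) * (u ^ (i : ℕ))⁻¹ = u ^ (i' : ℕ) * (y'.1 : G) * (u ^ (i' : ℕ))⁻¹ :=
          congrArg (fun z : A => ((z : H) : G)) h
        have key : ∀ (i i' : Fin p) (y y' : {y : zpowers x // y ≠ 1}),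
            u ^ (i : ℕ) * (y.1 : G) * (u ^ (i : ℕ))⁻¹ = u ^ (i' : ℕ) * (y'.1 : G) * (u ^ (i' : ℕ))⁻¹ →
            (i : ℕ) ≤ i' → (i : ℕ) = i' := by
          intro i i' y y' heq hle
          by_contra hne
          have hk : ∀ z : zpowers x, kern P H (z : G) := fun z =>
            mem_kernSubgroup.1 (zpowers_le.2 (mem_kernSubgroup.2 hx) z.2)
          have hmul : u ^ (i' : ℕ) = u ^ (i : ℕ) * u ^ ((i' : ℕ) - i) := by
            rw [← pow_add, Nat.add_sub_cancel' hle]
          refine hui ((i' : ℕ) - i) (by omega) (by omega)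
            (mem_normalizer_of_kern_conj hc hH (hk y'.1) (fun h => y'.2 (Subtype.ext h)) ?_)
          rw [hmul] at heq
          have : (y.1 : G) = u ^ ((i' : ℕ) - i) * (y'.1 : G) * (u ^ ((i' : ℕ) - i))⁻¹ := by
            refine (MulAut.conj (u ^ (i : ℕ))).injective ?_
            show u ^ (i : ℕ) * (y.1 : G) * (u ^ (i : ℕ))⁻¹ = _
            rw [heq, MulAut.conj_apply]
            group
          exact this ▸ hk y.1
        have hii : i = i' := by
          rcases le_total (i : ℕ) (i' : ℕ) with hle | hle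
          · exact Fin.ext (key i i' y y' heq hle)
          · exact (Fin.ext (key i' i y' y heq.symm hle)).symm
        subst hii
        rw [mul_left_inj, mul_right_inj] at heq
        rw [Subtype.ext (Subtype.ext heq) (a1 := y) (a2 := y')]
    have hle := Nat.card_le_card_of_injective f hf
    haveI := Fintype.ofFinite (zpowers x)
    have hT : Nat.card T = p * (r - 1) := by
      rw [Nat.card_prod, Nat.card_eq_fintype_card, Fintype.card_fin, Nat.card_eq_fintype_card,
        Fintype.card_subtype_compl, Fintype.card_subtype_eq, ← Nat.card_eq_fintype_card,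
        Nat.card_zpowers, hxr]
    rw [Finite.card_option, hT] at hle
    exact hle
  have hrlt : r + 1 ≤ p := by
    have := Nat.le_of_dvd (by have := hp.out.two_le; omega) hrd
    omega
  have hpr : p = r + 1 := by
    have h2r := hr.out.two_le
    by_contra hne
    have h3 : (r + 2) * (r - 1) + 1 ≤ r * r := by
      have : (r + 2) * (r - 1) ≤ p * (r - 1) := Nat.mul_le_mul_right _ (by omega)
      omega
    obtain ⟨m, rfl⟩ : ∃ m, r = m + 1 := ⟨r - 1, by omega⟩
    simp only [Nat.add_sub_cancel] at h3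
    nlinarith
  have hr2 : r = 2 := by
    rcases hr.out.eq_two_or_odd' with h | h
    · exact h
    · exfalso
      rcases hp.out.eq_two_or_odd' with h' | h'
      · exact hp2 h'
      · obtain ⟨m, hm⟩ := h
        obtain ⟨m', hm'⟩ := h'
        omega
  exact ⟨hr2, by omega, hKdvd, hsylH, u, fun h hh => by simpa using huH 1 h hh, hui⟩

end Cfsg.Agent.GenA.CycPrime
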