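import Mathlib
import Cfsg.Agent.GenA.CycPrime.Central

/-! The simple case: a nontrivial centraliser of `P` is impossible. -/

set_option autoImplicit false

namespace Cfsg.Agent.GenA.CycPrime

open Subgroup

variable {G : Type*} [Group G] [Finite G] {p : ℕ} [hp : Fact p.Prime] {P : Sylow p G}

theorem Hall.invert {H : Subgroup G} (hc : Ctx p P) (hH : Hall p P H) {h a : G} (hh : h ∈ H)
    (hh2 : h * h = 1) (hnk : ¬ kern P H h) (ha : a ∈ P) : h * a * h⁻¹ = a⁻¹ := by
  have hc1 : h * a * h⁻¹ ∈ P := hH.conj_mem hh ha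
  by_contra hne
  have hz1 : a * (h * a * h⁻¹) ≠ 1 := fun h1 => hne (eq_inv_of_mul_eq_one_right h1)
  refine hnk ⟨hh, hH.central_of_fix hc hh ((P : Subgroup G).mul_mem ha hc1) hz1 ?_⟩
  have e : h⁻¹ = h := inv_eq_of_mul_eq_one_right hh2
  rw [← mul_inv_eq_iff_eq_mul,
    show h * (a * (h * a * h⁻¹)) * h⁻¹ = h * a * h⁻¹ * ((h * h) * a * (h * h)⁻¹) by group, hh2,
    one_mul, inv_one, mul_one, sylow_comm hc hc1 ha]

theorem Hall.dec_unique {H : Subgroup G} (hH : Hall p P H) {a a' h h' : G} (ha : a ∈ P)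
    (ha' : a' ∈ P) (hh : h ∈ H) (hh' : h' ∈ H) (e : a * h = a' * h') : a = a' ∧ h = h' := by
  have h1 : a'⁻¹ * a = h' * h⁻¹ := by
    rw [eq_mul_inv_iff_mul_eq, mul_assoc, e, inv_mul_cancel_left]
  have h2 : a'⁻¹ * a = 1 := eq_one_of_coprime hH.prime' P.2 (h1 ▸ H.mul_mem hh' (H.inv_mem hh))
    ((P : Subgroup G).mul_mem ((P : Subgroup G).inv_mem ha') ha)
  have h3 : a = a' := (inv_mul_eq_one.1 h2).symm
  exact ⟨h3, mul_left_cancel (h3 ▸ e)⟩

theorem conj_eq_conj_iff {g a b : G} : g * a * g⁻¹ = g * b * g⁻¹ ↔ a = b :=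
  ⟨fun h => mul_left_cancel (mul_right_cancel h), fun h => by rw [h]⟩

theorem card_sup_not_dvd_inverted {t y : G} (ht2 : t * t = 1) (hinv : t * y * t = y⁻¹)
    (hy : ¬ p ∣ orderOf y) (hp2 : p ≠ 2) : ¬ p ∣ Nat.card (zpowers y ⊔ zpowers t : Subgroup G) := by
  refine card_sup_not_dvd ?_ (by rwa [Nat.card_zpowers]) ?_
  · have e : t⁻¹ = t := inv_eq_of_mul_eq_one_right ht2
    have key : ∀ a ∈ zpowers y, t * a * t⁻¹ ∈ zpowers y := by
      rintro a ⟨i, rfl⟩
      show t * y ^ i * t⁻¹ ∈ zpowers y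
      rw [← conj_zpow, e, hinv]
      exact zpow_mem (inv_mem (mem_zpowers y)) i
    intro b hb a ha
    have hle : zpowers t ≤ normalizer (zpowers y : Set G) := by
      rw [zpowers_le, mem_normalizer_iff]
      refine fun z => ⟨key z, fun hz => ?_⟩
      have h2 := key _ hz
      rwa [show t * (t * z * t⁻¹) * t⁻¹ = (t * t) * z * (t * t)⁻¹ by group, ht2, one_mul, inv_one, mul_one] at h2
    exact (mem_normalizer_iff.1 (hle hb) a).1 ha
  · rw [Nat.card_zpowers]
    intro hd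
    have h2 : orderOf t ∣ 2 := orderOf_dvd_of_pow_eq_one (by rw [pow_two, ht2])
    exact hp2 ((Nat.prime_dvd_prime_iff_eq hp.out Nat.prime_two).1 (hd.trans h2))

/-- For two noncommuting involutions, a conjugate of `P` contains a nontrivial power of the
product, and both involutions normalise it. -/
theorem exists_normalizer_of_noncommute (hc : Ctx p P) (hp2 : p ≠ 2) {t s : G} (ht : t * t = 1)
    (hs : s * s = 1) (hne : t * s ≠ s * t) :
    ∃ g z : G, z ∈ P ∧ z ≠ 1 ∧ g * t * g⁻¹ ∈ normalizer ((P : Subgroup G) : Set G) ∧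
      g * s * g⁻¹ ∈ normalizer ((P : Subgroup G) : Set G) ∧
      ∀ w, w * t = t * w → w * s = s * w → g * w * g⁻¹ * z = z * (g * w * g⁻¹) := by
  set y := t * s with hy
  have et : t⁻¹ = t := inv_eq_of_mul_eq_one_right ht
  have es : s⁻¹ = s := inv_eq_of_mul_eq_one_right hs
  have hinv : t * y * t = y⁻¹ := by rw [hy, mul_inv_rev, et, es, ← mul_assoc, ht, one_mul]
  have hpy : p ∣ orderOf y := by
    by_contra hpy
    have hcomm : t * y = y * t := hc.ab _ (card_sup_not_dvd_inverted ht hinv hpy hp2)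
      t (mem_sup_right (mem_zpowers t)) y (mem_sup_left (mem_zpowers y))
    refine hne ?_
    have h1 : s = t * s * t := by
      calc s = t * (t * s) := by rw [← mul_assoc, ht, one_mul]
        _ = t * s * t := hcomm
    calc t * s = t * s * (t * t) := by rw [ht, mul_one]
      _ = (t * s * t) * t := by group
      _ = s * t := by rw [← h1]
  set z₀ := y ^ (orderOf y / p) with hz₀
  have hordz : orderOf z₀ = p := orderOf_pow_orderOf_div (orderOf_pos y).ne' hpy
  obtain ⟨g, hg⟩ := exists_conj_mem (P := P) (y := z₀)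
    (IsPGroup.of_card (n := 1) (by rw [Nat.card_zpowers, hordz, pow_one]))
  have hz1 : g * z₀ * g⁻¹ ≠ 1 := fun h => hp.out.ne_one (by
    rw [← hordz, conj_eq_one_iff.1 h, orderOf_one])
  have hzy : z₀ * y = y * z₀ := (Commute.pow_self y _).eq
  have htz : t * z₀ * t = z₀⁻¹ := by
    calc t * z₀ * t = (t * y * t⁻¹) ^ (orderOf y / p) := by rw [conj_pow, et, hz₀]
      _ = z₀⁻¹ := by rw [et, hinv, inv_pow, hz₀]
  have hT : g * t * g⁻¹ ∈ normalizer ((P : Subgroup G) : Set G) := by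
    refine mem_normalizer_of_meet hc hg hz1 ?_
    rw [show g * t * g⁻¹ * (g * z₀ * g⁻¹) * (g * t * g⁻¹)⁻¹ = g * (t * z₀ * t⁻¹) * g⁻¹ by group, et,
      htz, show g * z₀⁻¹ * g⁻¹ = (g * z₀ * g⁻¹)⁻¹ by group]
    exact (P : Subgroup G).inv_mem hg
  have hY : g * y * g⁻¹ ∈ normalizer ((P : Subgroup G) : Set G) :=
    mem_normalizer_of_commute hc hg hz1 (conj_commute hzy.symm)
  refine ⟨g, g * z₀ * g⁻¹, hg, hz1, hT, ?_, fun w hwt hws => ?_⟩
  · have : g * s * g⁻¹ = g * t * g⁻¹ * (g * y * g⁻¹) := by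
      rw [show g * t * g⁻¹ * (g * y * g⁻¹) = g * (t * y) * g⁻¹ by group, hy, ← mul_assoc t t s, ht, one_mul]
    rw [this]
    exact mul_mem hT hY
  · exact conj_commute ((Commute.mul_right hwt hws).pow_right _).eq

theorem conj_sq (u h : G) : u ^ 2 * h * (u ^ 2)⁻¹ = u * (u * h * u⁻¹) * u⁻¹ := by
  rw [pow_two]
  simp only [mul_inv_rev, mul_assoc]

/-- `C_H(P)` is trivial. -/
theorem kern_trivial (hc : Ctx p P) {H : Subgroup G} (hH : Hall p P H) (hp2 : p ≠ 2) {x₀ : G}
    (hx₀ : kern P H x₀) : x₀ = 1 := by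
  classical
  haveI := Fintype.ofFinite G
  by_contra hx01
  obtain ⟨r, hr, hrd⟩ := Nat.exists_prime_and_dvd (fun h => hx01 (orderOf_eq_one_iff.1 h))
  haveI := Fact.mk hr
  set x := x₀ ^ (orderOf x₀ / r) with hxdef
  have hx : kern P H x := mem_kernSubgroup.1 (pow_mem (mem_kernSubgroup.2 hx₀) _)
  have hxr : orderOf x = r := orderOf_pow_orderOf_div (orderOf_pos x₀).ne' hrd
  obtain ⟨rfl, hp3, hKdvd, hsyl, u, huH, hui⟩ := kern_prime hc hH hx hxr hp2
  subst hp3
  have hx1 : x ≠ 1 := fun h => by rw [h, orderOf_one] at hxr; norm_num at hxr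
  have hxx : x * x = 1 := by rw [← pow_two, ← hxr, pow_orderOf_eq_one]
  set K := kernSubgroup P H with hKdef
  have hxK : x ∈ K := mem_kernSubgroup.2 hx
  have hK2 : Nat.card K = 2 := by
    refine le_antisymm (Nat.le_of_dvd two_pos hKdvd) ?_
    haveI : Nontrivial K := ⟨⟨⟨x, hxK⟩, 1, fun h => hx1 (congrArg Subtype.val h)⟩⟩
    exact Finite.one_lt_card
  have hkern : ∀ k, kern P H k → k = 1 ∨ k = x := by
    intro k hk
    by_contra hne
    push_neg at hne
    have h3 : ({⟨1, K.one_mem⟩, ⟨x, hxK⟩, ⟨k, mem_kernSubgroup.2 hk⟩} : Finset K).card ≤ 2 := by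
      rw [← hK2, Nat.card_eq_fintype_card]
      exact Finset.card_le_univ _
    rw [Finset.card_insert_of_notMem (by simp [Ne.symm hx1, Ne.symm hne.1]),
      Finset.card_insert_of_notMem (by simp [Ne.symm hne.2]), Finset.card_singleton] at h3
    omega
  have hu2 : ∀ h ∈ H, u ^ 2 * h * (u ^ 2)⁻¹ ∈ H := fun h hh => by
    rw [conj_sq]
    exact huH _ (huH h hh)
  set x₁ := u * x * u⁻¹ with hx₁
  set x₂ := u ^ 2 * x * (u ^ 2)⁻¹ with hx₂
  have hnk : ∀ i < 3, i ≠ 0 → ¬ kern P H (u ^ i * x * (u ^ i)⁻¹) := fun i hi hi0 hk =>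
    hui i hi hi0 (mem_normalizer_of_kern_conj hc hH hx hx1 hk)
  have hnk1 : ¬ kern P H x₁ := by simpa [hx₁] using hnk 1 (by norm_num) one_ne_zero
  have hnk2 : ¬ kern P H x₂ := hnk 2 (by norm_num) two_ne_zero
  have h12 : x₁ ≠ x₂ := by
    intro h
    refine hnk1 ?_
    have h' : x = u * x * u⁻¹ := by
      rw [hx₁, hx₂, conj_sq] at h
      exact conj_eq_conj_iff.1 h
    rw [hx₁, ← h']
    exact hx
  -- the structure of `H`
  obtain ⟨χ, hχ⟩ := exists_char hc hH
  have hH4 : Nat.card H ≤ 4 := by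
    rw [← χ.ker.card_mul_index, Subgroup.index_ker]
    refine (show Nat.card χ.ker * Nat.card χ.range ≤ 2 * 2 from Nat.mul_le_mul ?_ ?_)
    · rw [← hK2]
      exact Nat.card_le_card_of_injective
        (fun z : χ.ker => (⟨(z : H), mem_kernSubgroup.2 ((hχ _).1 z.2)⟩ : K))
        fun a b h => Subtype.ext (Subtype.ext (congrArg (fun w : K => (w : G)) h))
    · refine (Nat.le_of_dvd Nat.card_pos (Subgroup.card_subgroup_dvd_card _)).trans ?_
      rw [Nat.card_eq_fintype_card, ZMod.card_units]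
  let F : Finset H := {1, ⟨x, hx.1⟩, ⟨x₁, huH x hx.1⟩, ⟨x₂, hu2 x hx.1⟩}
  have hne01 : x ≠ x₁ := fun h => hnk1 (h ▸ hx)
  have hne02 : x ≠ x₂ := fun h => hnk2 (h ▸ hx)
  have hone : kern P H (1 : G) := ⟨H.one_mem, fun a _ => by simp⟩
  have hne1 : x₁ ≠ 1 := fun h => hnk1 (h ▸ hone)
  have hne2 : x₂ ≠ 1 := fun h => hnk2 (h ▸ hone)
  have hFcard : F.card = 4 := by
    simp only [F]
    rw [Finset.card_insert_of_notMem (by simp [Subtype.ext_iff, Ne.symm hx1, Ne.symm hne1, Ne.symm hne2]),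
      Finset.card_insert_of_notMem (by simp [hne01, hne02]),
      Finset.card_insert_of_notMem (by simp [h12]), Finset.card_singleton]
  have hFle : F.card ≤ Nat.card H := by
    rw [Nat.card_eq_fintype_card]; exact Finset.card_le_univ _
  have hHcard : Nat.card H = 4 := le_antisymm hH4 (hFcard ▸ hFle)
  have hmemH : ∀ h ∈ H, h = 1 ∨ h = x ∨ h = x₁ ∨ h = x₂ := by
    intro h hh
    have hF : F = Finset.univ := Finset.eq_univ_of_card F (by rw [hFcard, ← Nat.card_eq_fintype_card, hHcard])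
    have := hF ▸ Finset.mem_univ (⟨h, hh⟩ : H)
    simpa [F] using this
  have hxu : ∀ v : G, v * x * v⁻¹ * (v * x * v⁻¹) = 1 := fun v => by
    rw [show v * x * v⁻¹ * (v * x * v⁻¹) = v * (x * x) * v⁻¹ by group, hxx, mul_one, mul_inv_cancel]
  have hsq : ∀ h ∈ H, h * h = 1 := by
    intro h hh
    rcases hmemH h hh with rfl | rfl | rfl | rfl
    · simp
    · exact hxx
    · exact hxu u
    · exact hxu (u ^ 2)
  have hH2 : IsPGroup 2 H := IsPGroup.of_card (n := 2) (by rw [hHcard]; norm_num)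
  have hsyl4 : ∀ S : Sylow 2 G, Nat.card (S : Subgroup G) = 4 := by
    obtain ⟨S₀, hS₀⟩ := hH2.exists_le_sylow
    have h1 : Nat.card (S₀ : Subgroup G) = 4 :=
      Nat.dvd_antisymm (hHcard ▸ hsyl S₀ (hS₀ hx.1)) (hHcard ▸ card_dvd_of_le hS₀)
    intro S
    rw [S.card_eq_multiplicity, ← S₀.card_eq_multiplicity, h1]
  -- all involutions are conjugate to `x`
  have hconjx : ∀ t : G, t ≠ 1 → t * t = 1 → ∃ g, t = g * x * g⁻¹ := by
    intro t ht1 ht2
    have htord : orderOf t = 2 := orderOf_eq_prime (by rw [pow_two, ht2]) ht1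
    obtain ⟨S, hS⟩ := (IsPGroup.of_card (n := 1) (by rw [Nat.card_zpowers, htord, pow_one]) :
      IsPGroup 2 (zpowers t)).exists_le_sylow
    obtain ⟨S₀, hS₀⟩ := hH2.exists_le_sylow
    have hHS : H = S₀ := eq_of_le_of_card_ge hS₀ (by rw [hsyl4, hHcard])
    obtain ⟨g, hg⟩ := MulAction.exists_smul_eq G S S₀
    have hmem : g * t * g⁻¹ ∈ H := by
      rw [hHS, ← hg]; exact ⟨t, hS (mem_zpowers t), rfl⟩
    have hback : ∀ v, g * t * g⁻¹ = v * x * v⁻¹ → ∃ g', t = g' * x * g'⁻¹ := fun v hv =>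
      ⟨g⁻¹ * v, by rw [show g⁻¹ * v * x * (g⁻¹ * v)⁻¹ = g⁻¹ * (v * x * v⁻¹) * g by group, ← hv]; group⟩
    rcases hmemH _ hmem with h | h | h | h
    · exact absurd (conj_eq_one_iff.1 h) ht1
    · exact hback 1 (by simpa using h)
    · exact hback u h
    · exact hback (u ^ 2) h
  have hCx : centralizer ({x} : Set G) = normalizer ((P : Subgroup G) : Set G) := cent_kern hc hH hx hx1
  have hp2' : ∀ a ∈ P, a * a = 1 → a = 1 := by
    intro a ha h
    rw [← orderOf_eq_one_iff]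
    obtain ⟨k, hk⟩ := P.2.exists_card_eq
    exact Nat.eq_one_of_dvd_coprimes (Nat.Coprime.pow_left k (by norm_num : Nat.Coprime 3 2))
      (hk ▸ (P : Subgroup G).orderOf_dvd_natCard ha) (orderOf_dvd_of_pow_eq_one (by rw [pow_two, h]))
  -- the involutions of the normaliser
  have hinvN : ∀ w ∈ normalizer ((P : Subgroup G) : Set G), w ≠ 1 → w * w = 1 →
      w = x ∨ ∃ a ∈ P, ∃ h ∈ H, ¬ kern P H h ∧ w = a * h := by
    intro w hw hw1 hw2
    obtain ⟨a, ha, h, hh, rfl⟩ := hH.dec w hw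
    by_cases hk : kern P H h
    · left
      have hcm : a * h = h * a := (hk.2 a ha).symm
      have h1 : a * a = 1 := by
        calc a * a = a * a * (h * h) := by rw [hsq h hh, mul_one]
          _ = a * (a * h) * h := by group
          _ = a * (h * a) * h := by rw [hcm]
          _ = a * h * (a * h) := by group
          _ = 1 := hw2
      rw [hp2' a ha h1, one_mul] at hw1 ⊢
      exact (hkern h hk).resolve_left hw1
    · exact Or.inr ⟨a, ha, h, hh, hk, rfl⟩
  -- the graph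
  let V := {t : G // t ≠ 1 ∧ t * t = 1}
  haveI : Nonempty V := ⟨⟨x, hx1, hxx⟩⟩
  let Adj : V → V → Prop := fun a b => a.1 ≠ b.1 ∧ a.1 * b.1 = b.1 * a.1
  refine friendship_false (k := 2 * Nat.card (P : Subgroup G)) Adj
    (fun a b h => ⟨h.1.symm, h.2.symm⟩) (fun a h => h.1 rfl) ?_ ?_ ?_
  · have : 1 < Nat.card (P : Subgroup G) :=
      Finite.one_lt_card_iff_nontrivial.2 ((nontrivial_iff_ne_bot _).2 (sylow_ne_bot hc))
    omega
  · have hx' : Nat.card {b : V // Adj ⟨x, hx1, hxx⟩ b} = 2 * Nat.card (P : Subgroup G) := by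
      have hcard2 : Nat.card {h : H // ¬ kern P H (h : G)} = 2 := by
        have h1 : Nat.card {h : H // kern P H (h : G)} = 2 := by
          rw [← hK2]
          exact Nat.card_congr
            { toFun := fun h => ⟨h.1, mem_kernSubgroup.2 h.2⟩
              invFun := fun k => ⟨⟨k, k.2.1⟩, mem_kernSubgroup.1 k.2⟩
              left_inv := fun _ => rfl
              right_inv := fun _ => rfl }
        rw [Nat.card_eq_fintype_card, Fintype.card_subtype_compl, ← Nat.card_eq_fintype_card,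
          ← Nat.card_eq_fintype_card, h1, hHcard]
      have hmk : ∀ (a : (P : Subgroup G)) (h : {h : H // ¬ kern P H (h : G)}),
          (a : G) * (h.1 : G) ≠ 1 ∧ (a : G) * (h.1 : G) * ((a : G) * (h.1 : G)) = 1 ∧
          x ≠ (a : G) * (h.1 : G) ∧ x * ((a : G) * (h.1 : G)) = (a : G) * (h.1 : G) * x := by
        intro a h
        refine ⟨fun e => ?_, ?_, fun e => ?_, ?_⟩
        · have := hH.dec_unique a.2 (one_mem _) h.1.2 H.one_mem (by rw [e, one_mul])
          exact h.2 (this.2 ▸ hone)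
        · have hi := hH.invert hc h.1.2 (hsq _ h.1.2) h.2 a.2
          calc (a : G) * (h.1 : G) * ((a : G) * (h.1 : G))
              = (a : G) * ((h.1 : G) * a * (h.1 : G)⁻¹) * ((h.1 : G) * (h.1 : G)) := by group
            _ = 1 := by rw [hi, hsq _ h.1.2, mul_inv_cancel, mul_one]
        · have := hH.dec_unique (one_mem _) a.2 hx.1 h.1.2 (by rw [one_mul]; exact e)
          exact h.2 (this.2 ▸ hx)
        · rw [← mul_assoc, hx.2 a a.2, mul_assoc, hH.comm x hx.1 _ h.1.2, ← mul_assoc]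
      rw [← hcard2, mul_comm, ← Nat.card_prod]
      refine (Nat.card_congr (Equiv.ofBijective (fun o : ↥(P : Subgroup G) × {h : H // ¬ kern P H (h : G)} =>
        (⟨⟨(o.1 : G) * (o.2.1 : G), (hmk o.1 o.2).1, (hmk o.1 o.2).2.1⟩, (hmk o.1 o.2).2.2⟩ :
          {b : V // Adj ⟨x, hx1, hxx⟩ b})) ⟨?_, ?_⟩)).symm
      · intro o o' e
        have e' : (o.1 : G) * (o.2.1 : G) = (o'.1 : G) * (o'.2.1 : G) :=
          congrArg (fun b : {b : V // Adj ⟨x, hx1, hxx⟩ b} => b.1.1) e
        obtain ⟨e1, e2⟩ := hH.dec_unique o.1.2 o'.1.2 o.2.1.2 o'.2.1.2 e'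
        exact Prod.ext (Subtype.ext e1) (Subtype.ext (Subtype.ext e2))
      · rintro ⟨⟨w, hw1, hw2⟩, hne, hcomm⟩
        have hwN : w ∈ normalizer ((P : Subgroup G) : Set G) := hCx ▸ mem_centralizer_singleton_iff.2 hcomm.symm
        rcases hinvN w hwN hw1 hw2 with h | ⟨a, ha, h, hh, hk, rfl⟩
        · exact absurd h.symm hne
        · exact ⟨(⟨a, ha⟩, ⟨⟨h, hh⟩, hk⟩), rfl⟩
    intro t
    obtain ⟨g, hg⟩ := hconjx t.1 t.2.1 t.2.2
    rw [← hx']
    refine Nat.card_congr (Equiv.subtypeEquiv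
      ((MulAut.conj g⁻¹).toEquiv.subtypeEquiv fun a => ?_) fun b => ?_)
    · show (a ≠ 1 ∧ a * a = 1) ↔ (MulAut.conj g⁻¹ a ≠ 1 ∧ MulAut.conj g⁻¹ a * MulAut.conj g⁻¹ a = 1)
      rw [← map_mul, ne_eq, ne_eq, EmbeddingLike.map_eq_one_iff, EmbeddingLike.map_eq_one_iff]
    · show (t.1 ≠ b.1 ∧ t.1 * b.1 = b.1 * t.1) ↔ (x ≠ MulAut.conj g⁻¹ b.1 ∧ x * MulAut.conj g⁻¹ b.1 = MulAut.conj g⁻¹ b.1 * x)
      have he : x = MulAut.conj g⁻¹ t.1 := by rw [MulAut.conj_apply, hg]; group
      rw [he, ← map_mul, ← map_mul, ne_eq, ne_eq, EmbeddingLike.apply_eq_iff_eq, EmbeddingLike.apply_eq_iff_eq]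
  · rintro ⟨t, ht1, ht2⟩ ⟨s, hs1, hs2⟩ hts
    have hne : t ≠ s := fun h => hts (Subtype.ext h)
    by_cases hcm : t * s = s * t
    · have hmul1 : t * s ≠ 1 := by
        intro h
        refine hne ?_
        calc t = t * (s * s) := by rw [hs2, mul_one]
          _ = t * s * s := by group
          _ = s := by rw [h, one_mul]
      have hmul2 : t * s * (t * s) = 1 := by
        rw [show t * s * (t * s) = t * (s * t) * s by group, ← hcm, show t * (t * s) * s = (t * t) * (s * s) by group, ht2, hs2, one_mul]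
      refine ⟨⟨t * s, hmul1, hmul2⟩, ⟨⟨fun h => hs1 (left_eq_mul.1 h), ?_⟩, ⟨fun h => ht1 (right_eq_mul.1 h), ?_⟩⟩, ?_⟩
      · show t * (t * s) = t * s * t
        rw [← mul_assoc, mul_assoc t s t, ← hcm, mul_assoc]
      · show s * (t * s) = t * s * s
        rw [← mul_assoc, ← hcm]
      rintro ⟨w, hw1, hw2⟩ ⟨⟨hwt, hct⟩, ⟨hws, hcs⟩⟩
      apply Subtype.ext
      show w = t * s
      by_contra hwts
      have hpt : ∀ v : G, v * v = 1 → IsPGroup 2 (zpowers v) := fun v hv => by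
        obtain ⟨i, -, hi⟩ := (Nat.dvd_prime_pow Nat.prime_two).1
          ((orderOf_dvd_of_pow_eq_one (by rw [pow_two, hv] : v ^ 2 = 1)).trans (dvd_pow_self 2 one_ne_zero))
        exact IsPGroup.of_card (by rw [Nat.card_zpowers, hi])
      have hle1 : zpowers t ≤ normalizer (zpowers s : Set G) := by
        refine le_trans ?_ (centralizer_le_normalizer _)
        rw [zpowers_le, mem_centralizer_iff]
        rintro a ⟨i, rfl⟩
        exact ((show Commute t s from hcm).zpow_right i).eq.symm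
      have hE1 : IsPGroup 2 (zpowers t ⊔ zpowers s : Subgroup G) :=
        IsPGroup.to_sup_of_normal_right' (hpt t ht2) (hpt s hs2) hle1
      have hle2 : zpowers w ≤ normalizer ((zpowers t ⊔ zpowers s : Subgroup G) : Set G) := by
        refine le_trans ?_ (centralizer_le_normalizer _)
        rw [zpowers_le]
        have hsup : zpowers t ⊔ zpowers s ≤ centralizer ({w} : Set G) :=
          sup_le (zpowers_le.2 (mem_centralizer_singleton_iff.2 hct)) (zpowers_le.2 (mem_centralizer_singleton_iff.2 hcs))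
        exact mem_centralizer_iff.2 fun a ha => mem_centralizer_singleton_iff.1 (hsup ha)
      have hE : IsPGroup 2 (zpowers w ⊔ (zpowers t ⊔ zpowers s) : Subgroup G) :=
        IsPGroup.to_sup_of_normal_right' (hpt w hw2) hE1 hle2
      obtain ⟨S, hS⟩ := hE.exists_le_sylow
      have mt : t ∈ S := hS (mem_sup_right (mem_sup_left (mem_zpowers t)))
      have ms : s ∈ S := hS (mem_sup_right (mem_sup_right (mem_zpowers s)))
      have mw : w ∈ S := hS (mem_sup_left (mem_zpowers w))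
      let FS : Finset (S : Subgroup G) := {1, ⟨t, mt⟩, ⟨s, ms⟩, ⟨t * s, mul_mem mt ms⟩, ⟨w, mw⟩}
      have hFS : FS.card ≤ 4 := by
        rw [← hsyl4 S, Nat.card_eq_fintype_card]; exact Finset.card_le_univ _
      have n1 : t ≠ t * s := fun h => hs1 (left_eq_mul.1 h)
      have n2 : s ≠ t * s := fun h => ht1 (right_eq_mul.1 h)
      simp only [FS] at hFS
      rw [Finset.card_insert_of_notMem (by simp [Subtype.ext_iff, Ne.symm ht1, Ne.symm hs1, Ne.symm hmul1, Ne.symm hw1]),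
        Finset.card_insert_of_notMem (by simp [hne, n1, hwt]),
        Finset.card_insert_of_notMem (by simp [n2, hws]),
        Finset.card_insert_of_notMem (by simp [Ne.symm hwts]), Finset.card_singleton] at hFS
      omega
    · obtain ⟨g, z, hz, hz1, hT, hS, hw⟩ := exists_normalizer_of_noncommute hc hp2 ht2 hs2 hcm
      have hwx : g⁻¹ * x * g ≠ 1 := fun h => hx1 (by
        calc x = g * (g⁻¹ * x * g) * g⁻¹ := by group
          _ = 1 := by rw [h, mul_one, mul_inv_cancel])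
      have hwx2 : g⁻¹ * x * g * (g⁻¹ * x * g) = 1 := by
        rw [show g⁻¹ * x * g * (g⁻¹ * x * g) = g⁻¹ * (x * x) * g by group, hxx, mul_one, inv_mul_cancel]
      have hcomm : ∀ v, g * v * g⁻¹ ∈ normalizer ((P : Subgroup G) : Set G) → v * (g⁻¹ * x * g) = g⁻¹ * x * g * v := by
        intro v hv
        have h1 := mem_centralizer_singleton_iff.1 (hCx ▸ hv)
        calc v * (g⁻¹ * x * g) = g⁻¹ * (g * v * g⁻¹ * x) * g := by group
          _ = g⁻¹ * (x * (g * v * g⁻¹)) * g := by rw [h1]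
          _ = g⁻¹ * x * g * v := by group
      refine ⟨⟨g⁻¹ * x * g, hwx, hwx2⟩,
        ⟨⟨fun h => hcm ?_, hcomm t hT⟩, ⟨fun h => hcm ?_, hcomm s hS⟩⟩, ?_⟩
      · have h' : t = g⁻¹ * x * g := h
        rw [h']; exact (hcomm s hS).symm
      · have h' : s = g⁻¹ * x * g := h
        rw [h']; exact hcomm t hT
      rintro ⟨w, hw1, hw2⟩ ⟨⟨-, hct⟩, ⟨-, hcs⟩⟩
      apply Subtype.ext
      show w = g⁻¹ * x * g
      have hwz := hw w hct.symm hcs.symm
      have hwN := mem_normalizer_of_commute hc hz hz1 hwz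
      rcases hinvN (g * w * g⁻¹) hwN (fun h => hw1 (conj_eq_one_iff.1 h))
          (by rw [show g * w * g⁻¹ * (g * w * g⁻¹) = g * (w * w) * g⁻¹ by group, hw2, mul_one, mul_inv_cancel]) with h | ⟨a, ha, h, hh, hk, e⟩
      · rw [← h]; group
      · exfalso
        refine hk ⟨hh, hH.central_of_fix hc hh hz hz1 ?_⟩
        rw [e] at hwz
        refine mul_left_cancel (a := a) ?_
        calc a * (h * z) = a * h * z := by group
          _ = z * (a * h) := hwz
          _ = z * a * h := by group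
          _ = a * (z * h) := by rw [sylow_comm hc hz ha]; group

end Cfsg.Agent.GenA.CycPrime
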