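import Mathlib
import Cfsg.Agent.GenA.CycPrime.Involution
import Cfsg.Agent.S0183
import Cfsg.Agent.Lib.CN.Main

/-! The simple case is impossible. -/

set_option autoImplicit false

namespace Cfsg.Agent.GenA.CycPrime

open Subgroup

variable {G : Type*} [Group G] [Finite G] {p : ℕ} [hp : Fact p.Prime] {P : Sylow p G}

theorem mem_sylow_of_commute (hc : Ctx p P) {H : Subgroup G} (hH : Hall p P H)
    (htriv : ∀ x, kern P H x → x = 1) {y g : G} (hy : y ∈ P) (hy1 : y ≠ 1) (hg : g * y = y * g) :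
    g ∈ P := by
  obtain ⟨a, ha, h, hh, rfl⟩ := hH.dec g (mem_normalizer_of_commute hc hy hy1 hg)
  have hfix : h * y = y * h := by
    refine mul_left_cancel (a := a) ?_
    calc a * (h * y) = a * h * y := by group
      _ = y * (a * h) := hg
      _ = y * a * h := by group
      _ = a * (y * h) := by rw [sylow_comm hc hy ha]; group
  rw [htriv h ⟨hh, hH.central_of_fix hc hh hy hy1 hfix⟩, mul_one]
  exact ha

/-- A `p'`-element has a `p'`-centraliser. -/
theorem cent_prime' (hc : Ctx p P) {H : Subgroup G} (hH : Hall p P H)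
    (htriv : ∀ x, kern P H x → x = 1) {x : G} (hx1 : x ≠ 1) (hx : ¬ p ∣ orderOf x) :
    ¬ p ∣ Nat.card (centralizer ({x} : Set G)) := by
  intro hd
  obtain ⟨a, ha⟩ := exists_prime_orderOf_dvd_card' (G := centralizer ({x} : Set G)) p hd
  rw [← orderOf_coe] at ha
  obtain ⟨g, hg⟩ := exists_conj_mem (P := P) (y := (a : G))
    (IsPGroup.of_card (n := 1) (by rw [Nat.card_zpowers, ha, pow_one]))
  have hga : g * (a : G) * g⁻¹ ≠ 1 := fun h => hp.out.ne_one (by
    rw [← ha, conj_eq_one_iff.1 h, orderOf_one])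
  have hxP := mem_sylow_of_commute hc hH htriv hg hga
    (conj_commute (mem_centralizer_singleton_iff.1 a.2).symm)
  obtain ⟨k, hk⟩ := P.2.exists_card_eq
  have h1 : orderOf (g * x * g⁻¹) = orderOf x := (MulAut.conj g).orderOf_eq x
  refine hx1 (orderOf_eq_one_iff.1 ?_)
  exact Nat.eq_one_of_dvd_coprimes (Nat.Coprime.pow_left k (hp.out.coprime_iff_not_dvd.2 hx))
    (hk ▸ h1 ▸ (P : Subgroup G).orderOf_dvd_natCard hxP) dvd_rfl

/-- Centralisers are abelian. -/
theorem cent_comm (hc : Ctx p P) {H : Subgroup G} (hH : Hall p P H)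
    (htriv : ∀ x, kern P H x → x = 1) (x : G) (hx1 : x ≠ 1) :
    ∀ a ∈ centralizer ({x} : Set G), ∀ b ∈ centralizer ({x} : Set G), a * b = b * a := by
  by_cases hd : p ∣ orderOf x
  · set z := x ^ (orderOf x / p) with hz
    have hord : orderOf z = p := orderOf_pow_orderOf_div (orderOf_pos x).ne' hd
    obtain ⟨g, hg⟩ := exists_conj_mem (P := P) (y := z)
      (IsPGroup.of_card (n := 1) (by rw [Nat.card_zpowers, hord, pow_one]))
    have hz1 : g * z * g⁻¹ ≠ 1 := fun h => hp.out.ne_one (by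
      rw [← hord, conj_eq_one_iff.1 h, orderOf_one])
    have key : ∀ a ∈ centralizer ({x} : Set G), g * a * g⁻¹ ∈ P := fun a ha =>
      mem_sylow_of_commute hc hH htriv hg hz1
        (conj_commute ((show Commute a x from mem_centralizer_singleton_iff.1 ha).pow_right _).eq)
    intro a ha b hb
    have := sylow_comm hc (key a ha) (key b hb)
    refine (MulAut.conj g).injective ?_
    rw [map_mul, map_mul]
    exact this
  · exact hc.ab _ (cent_prime' hc hH htriv hx1 hd)

theorem exists_unit_neg_one {p : ℕ} [Fact p.Prime] {a : (ZMod p)ˣ} (h : a * a = 1) :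
    a = 1 ∨ a = -1 := by
  have h' : (a : ZMod p) * a = 1 := by rw [← Units.val_mul, h, Units.val_one]
  rcases mul_self_eq_one_iff.1 h' with h | h
  · exact Or.inl (Units.ext h)
  · exact Or.inr (Units.ext h)

theorem isUnit_two_eq_one : ∀ u : ZMod 2, IsUnit u → u = 1 := by decide

theorem simple_false (hc : Ctx p P) : False := by
  classical
  haveI := Fintype.ofFinite G
  obtain ⟨H, hle, hH', hcard, hdec, hcomm⟩ := exists_hall hc
  have hH : Hall p P H := ⟨hle, hH', hcard, hdec, hcomm⟩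
  obtain ⟨χ, hχ⟩ := exists_char hc hH
  have hp2 : p ≠ 2 := by
    rintro rfl
    obtain ⟨h, hh, a, ha, hne⟩ := hH.exists_noncentral hc
    refine hne (((hχ ⟨h, hh⟩).1 ?_).2 a ha)
    refine Units.ext ?_
    exact isUnit_two_eq_one _ (χ ⟨h, hh⟩).isUnit
  have htriv : ∀ x, kern P H x → x = 1 := fun x hx => kern_trivial hc hH hp2 hx
  have hχinj : Function.Injective χ := by
    rw [injective_iff_map_eq_one]
    exact fun h hh => Subtype.ext (htriv _ ((hχ h).1 hh))
  -- the order is even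
  haveI : IsSimpleGroup G :=
    { exists_pair_ne := by
        obtain ⟨w, -, hw⟩ := exists_omega hc
        exact ⟨w, 1, fun h => hp.out.ne_one (by rw [← hw, h, orderOf_one])⟩
      eq_bot_or_eq_top_of_normal := hc.simple }
  have heven : 2 ∣ Nat.card G := by
    by_contra hodd
    have hsolv := Cfsg.Agent.S0183.result (Nat.odd_iff.2 (by omega))
      (CN.isCNGroup_of_ca (cent_comm hc hH htriv))
    have hlt := IsSolvable.commutator_lt_top_of_nontrivial G
    rcases hc.simple (commutator G) inferInstance with h | h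
    · refine hc.notnormal ⟨fun a ha g => ?_⟩
      have : g * a * g⁻¹ * a⁻¹ ∈ commutator G := commutator_mem_commutator (mem_top g) (mem_top a)
      rw [h, mem_bot, mul_inv_eq_one] at this
      rw [this]
      exact ha
    · exact hlt.ne h
  haveI : Fact (Nat.Prime 2) := ⟨Nat.prime_two⟩
  obtain ⟨t₀, ht₀⟩ := exists_prime_orderOf_dvd_card' (G := G) 2 heven
  obtain ⟨S, hS⟩ := (IsPGroup.of_card (n := 1) (by rw [Nat.card_zpowers, ht₀, pow_one]) :
    IsPGroup 2 (zpowers t₀)).exists_le_sylow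
  have ht₀S : t₀ ∈ S := hS (mem_zpowers t₀)
  have ht₀1 : t₀ ≠ 1 := fun h => by rw [h, orderOf_one] at ht₀; norm_num at ht₀
  have hnd : ∀ {n : ℕ}, n = 2 → ¬ p ∣ n := fun h hd =>
    hp2 ((Nat.prime_dvd_prime_iff_eq hp.out Nat.prime_two).1 (h ▸ hd))
  set K := centralizer ({t₀} : Set G) with hK
  have hKp : ¬ p ∣ Nat.card K := cent_prime' hc hH htriv ht₀1 (hnd ht₀)
  have hKab := hc.ab K hKp
  have hSp : ¬ p ∣ Nat.card (S : Subgroup G) := by
    obtain ⟨k, hk⟩ := S.2.exists_card_eq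
    rw [hk]
    exact fun h => hnd rfl (hp.out.dvd_of_dvd_pow h)
  have hSK : (S : Subgroup G) ≤ K := fun a ha =>
    mem_centralizer_singleton_iff.2 (hc.ab _ hSp a ha t₀ ht₀S)
  have ht₀K : t₀ ∈ K := hSK ht₀S
  have hCK : ∀ t ∈ K, t ≠ 1 → centralizer ({t} : Set G) = K := by
    intro t ht ht1
    refine le_antisymm (fun a ha => mem_centralizer_singleton_iff.2 ?_)
      fun a ha => mem_centralizer_singleton_iff.2 (hKab a ha t ht)
    exact cent_comm hc hH htriv t ht1 a ha t₀
      (mem_centralizer_singleton_iff.2 (hKab t₀ ht₀K t ht))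
  set M := normalizer (K : Set G) with hM
  have hKM : K ≤ M := le_normalizer
  have hnorm : ∀ g : G, g * t₀ * g⁻¹ ∈ K → g ∈ M := by
    intro g hg
    have h1 := hCK _ hg fun h => ht₀1 (conj_eq_one_iff.1 h)
    rw [hM, mem_normalizer_iff]
    intro a
    constructor
    · intro ha
      rw [← h1, mem_centralizer_singleton_iff]
      exact conj_commute (mem_centralizer_singleton_iff.1 ha)
    · intro ha
      rw [hK, mem_centralizer_singleton_iff]
      rw [← h1, mem_centralizer_singleton_iff] at ha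
      refine (MulAut.conj g).injective ?_
      simp only [map_mul]
      exact ha
  -- `M/K` is a nontrivial `p`-group
  haveI hKn : (K.subgroupOf M).Normal := normal_subgroupOf_of_le_normalizer le_rfl
  have hMK : IsPGroup p (M ⧸ K.subgroupOf M) := by
    intro q
    obtain ⟨⟨g, hg⟩, rfl⟩ := QuotientGroup.mk_surjective q
    obtain ⟨a, b, hab, ha, hb, hap, hbp⟩ := exists_parts p g
    have hbM : b ∈ M := zpowers_le.2 hg hb
    have hbK : b ∈ K := by
      rw [hK, mem_centralizer_singleton_iff]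
      refine hc.ab (K ⊔ zpowers b) (card_sup_not_dvd ?_ hKp (by rwa [Nat.card_zpowers]))
        b (mem_sup_right (mem_zpowers b)) t₀ (mem_sup_left ht₀K)
      exact fun c hc' z hz => (mem_normalizer_iff.1 (zpowers_le.2 hbM hc') z).1 hz
    obtain ⟨k, hk⟩ := IsPGroup.iff_orderOf.1 hap ⟨a, mem_zpowers a⟩
    rw [orderOf_mk] at hk
    refine ⟨k, ?_⟩
    rw [← QuotientGroup.mk_pow, QuotientGroup.eq_one_iff, mem_subgroupOf, SubmonoidClass.coe_pow]
    show g ^ p ^ k ∈ K
    have hcm : Commute a b := by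
      obtain ⟨i, rfl⟩ := ha
      obtain ⟨j, rfl⟩ := hb
      exact (Commute.refl g).zpow_zpow i j
    rw [hab, hcm.mul_pow, ← hk, pow_orderOf_eq_one, one_mul]
    exact pow_mem hbK _
  obtain ⟨kK, hkK⟩ : ∃ k, Nat.card (M ⧸ K.subgroupOf M) = p ^ k := hMK.exists_card_eq
  have hkK0 : kK ≠ 0 := by
    intro h0
    rw [h0, pow_zero] at hkK
    have hMle : M ≤ K := fun g hg => by
      haveI := (Nat.card_eq_one_iff_unique.1 hkK).1
      exact mem_subgroupOf.1 ((QuotientGroup.eq_one_iff (N := K.subgroupOf M) ⟨g, hg⟩).1 (Subsingleton.elim _ _))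
    have hle' : normalizer ((S : Subgroup G) : Set G) ≤ centralizer ((S : Subgroup G) : Set G) := by
      intro g hg
      have : g ∈ K := hMle (hnorm g (hSK ((mem_normalizer_iff.1 hg t₀).1 ht₀S)))
      exact mem_centralizer_iff.2 fun a ha => hKab a (hSK ha) g this
    obtain ⟨S', N, hN, hN'⟩ :=
      Transfer.NormalPComplement.hasNormalPComplement_of_normalizer_le_centralizer S hle'
    have h2N : ¬ 2 ∣ Nat.card N := hN'.index_eq_card ▸ S'.not_dvd_index
    rcases hc.simple N hN with h | h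
    · subst h
      have hS'top : (S' : Subgroup G) = ⊤ := isComplement'_bot_left.1 hN'
      obtain ⟨w, hwP, hw⟩ := exists_omega hc
      obtain ⟨j, hj⟩ := IsPGroup.iff_orderOf.1 S'.2 ⟨w, hS'top ▸ mem_top w⟩
      rw [orderOf_mk, hw] at hj
      exact hnd rfl (hp.out.dvd_of_dvd_pow (dvd_of_eq hj))
    · exact h2N (h ▸ (card_top (G := G)).symm ▸ heven)
  -- the involutions of `K`
  let T := {t : G // t ∈ K ∧ orderOf t = 2}
  set q := Nat.card T with hq
  have hq0 : q ≠ 0 := by
    haveI : Nonempty T := ⟨⟨t₀, ht₀K, ht₀⟩⟩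
    exact Nat.card_pos.ne'
  have heq : p ^ kK ∣ q := by
    letI : MulAction M T :=
      { smul := fun g t => ⟨(g : G) * t.1 * (g : G)⁻¹, (mem_normalizer_iff.1 g.2 t.1).1 t.2.1,
          ((MulAut.conj (g : G)).orderOf_eq t.1).trans t.2.2⟩
        one_smul := fun t => Subtype.ext (show ((1 : M) : G) * t.1 * ((1 : M) : G)⁻¹ = t.1 by simp)
        mul_smul := fun g h t => Subtype.ext
          (show ((g * h : M) : G) * t.1 * ((g * h : M) : G)⁻¹ = (g : G) * ((h : G) * t.1 * (h : G)⁻¹) * (g : G)⁻¹ by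
            rw [Subgroup.coe_mul]; group) }
    have hstab : ∀ t : T, MulAction.stabilizer M t = K.subgroupOf M := by
      intro t
      have ht1 : t.1 ≠ 1 := fun h => by have := t.2.2; rw [h, orderOf_one] at this; omega
      ext g
      rw [MulAction.mem_stabilizer_iff, mem_subgroupOf]
      constructor
      · intro h
        have h' : (g : G) * t.1 * (g : G)⁻¹ = t.1 := congrArg Subtype.val h
        rw [← hCK t.1 t.2.1 ht1]
        exact mem_centralizer_singleton_iff.2 (mul_inv_eq_iff_eq_mul.1 h')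
      · intro h
        refine Subtype.ext ?_
        show (g : G) * t.1 * (g : G)⁻¹ = t.1
        rw [hKab _ h _ t.2.1, mul_inv_cancel_right]
    rw [hq, Nat.card_congr (MulAction.selfEquivSigmaOrbits M T), Nat.card_sigma]
    refine Finset.dvd_sum fun o _ => ?_
    rw [Nat.card_coe_set_eq]
    have := MulAction.index_stabilizer (X := T) M (x := o.out)
    rw [hstab, Subgroup.index_eq_card, hkK] at this
    exact this ▸ dvd_rfl
  -- all involutions
  let I := {t : G // orderOf t = 2}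
  have hI1 : ∀ t : G, orderOf t = 2 → t ≠ 1 ∧ t * t = 1 := fun t ht =>
    ⟨fun h => by rw [h, orderOf_one] at ht; omega, by rw [← pow_two, ← ht, pow_orderOf_eq_one]⟩
  have hconjK : ∀ t : G, orderOf t = 2 → ∃ g : G, g * t * g⁻¹ ∈ K := by
    intro t ht
    obtain ⟨S', hS'⟩ := (IsPGroup.of_card (n := 1) (by rw [Nat.card_zpowers, ht, pow_one]) :
      IsPGroup 2 (zpowers t)).exists_le_sylow
    obtain ⟨g, hg⟩ := MulAction.exists_smul_eq G S' S
    exact ⟨g, hSK (hg ▸ ⟨t, hS' (mem_zpowers t), rfl⟩)⟩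
  have hcentI : ∀ t : I, Nat.card {s : I // t.1 * s.1 = s.1 * t.1} = q := by
    intro t
    obtain ⟨g, hg⟩ := hconjK t.1 t.2
    have h1 : g * t.1 * g⁻¹ ≠ 1 := fun h => (hI1 _ t.2).1 (conj_eq_one_iff.1 h)
    refine Nat.card_congr (α := {s : I // t.1 * s.1 = s.1 * t.1}) (β := T)
      { toFun := fun s => ⟨g * s.1.1 * g⁻¹, by
          rw [← hCK _ hg h1, mem_centralizer_singleton_iff]
          exact conj_commute s.2.symm, ((MulAut.conj g).orderOf_eq s.1.1).trans s.1.2⟩
        invFun := fun u => ⟨⟨g⁻¹ * u.1 * g, by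
          rw [show g⁻¹ * u.1 * g = MulAut.conj g⁻¹ u.1 by simp, MulEquiv.orderOf_eq]; exact u.2.2⟩, by
          have h2 := hKab _ hg _ u.2.1
          show t.1 * (g⁻¹ * u.1 * g) = g⁻¹ * u.1 * g * t.1
          calc t.1 * (g⁻¹ * u.1 * g) = g⁻¹ * (g * t.1 * g⁻¹ * u.1) * g := by group
            _ = g⁻¹ * (u.1 * (g * t.1 * g⁻¹)) * g := by rw [h2]
            _ = g⁻¹ * u.1 * g * t.1 := by group⟩
        left_inv := fun s => Subtype.ext (Subtype.ext (by show g⁻¹ * (g * s.1.1 * g⁻¹) * g = s.1.1; group))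
        right_inv := fun u => Subtype.ext (by show g * (g⁻¹ * u.1 * g) * g⁻¹ = u.1; group) }
  have hI : Nat.card I = M.index * q := by
    rw [Subgroup.index_eq_card, hq, ← Nat.card_prod]
    refine (Nat.card_congr (Equiv.ofBijective (fun o : (G ⧸ M) × T =>
      (⟨o.1.out * o.2.1 * o.1.out⁻¹, ((MulAut.conj o.1.out).orderOf_eq o.2.1).trans o.2.2.2⟩ : I)) ⟨?_, ?_⟩)).symm
    · rintro ⟨c, t⟩ ⟨c', t'⟩ h
      have h' : c.out * t.1 * c.out⁻¹ = c'.out * t'.1 * c'.out⁻¹ := congrArg Subtype.val h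
      have hmem : c'.out⁻¹ * c.out ∈ M := by
        refine mem_normalizer_iff.2 ?_
        have e : c'.out⁻¹ * c.out * t.1 * (c'.out⁻¹ * c.out)⁻¹ = t'.1 := by
          rw [show c'.out⁻¹ * c.out * t.1 * (c'.out⁻¹ * c.out)⁻¹ = c'.out⁻¹ * (c.out * t.1 * c.out⁻¹) * c'.out by group, h']
          group
        intro a
        have hmemK : ∀ u : T, ∀ x : G, x ∈ K ↔ x * u.1 = u.1 * x := fun u x => by
          refine (SetLike.ext_iff.1 (hCK u.1 u.2.1 (hI1 _ u.2.2).1) x).symm.trans ?_
          exact mem_centralizer_singleton_iff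
        refine (hmemK t a).trans (Iff.trans ?_ (hmemK t' _).symm)
        rw [← e]
        constructor
        · exact conj_commute
        · intro hh
          refine (MulAut.conj (c'.out⁻¹ * c.out)).injective ?_
          rw [MulAut.conj_apply, MulAut.conj_apply]
          convert hh using 1 <;> group
      have hcc : c = c' := by
        rw [← QuotientGroup.out_eq' c, ← QuotientGroup.out_eq' c', eq_comm, QuotientGroup.eq]
        exact hmem
      subst hcc
      exact Prod.ext rfl (Subtype.ext (mul_left_cancel (mul_right_cancel h')))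
    · rintro ⟨t, ht⟩
      obtain ⟨g, hg⟩ := hconjK t ht
      obtain ⟨⟨v, hv⟩, hout⟩ : ∃ v : M, ((g⁻¹ : G) : G ⧸ M).out = g⁻¹ * v :=
        QuotientGroup.mk_out_eq_mul M g⁻¹
      refine ⟨((g⁻¹ : G), ⟨v⁻¹ * (g * t * g⁻¹) * v, ?_, ?_⟩), Subtype.ext ?_⟩
      · have := (mem_normalizer_iff.1 (inv_mem hv) (g * t * g⁻¹)).1 hg
        simpa using this
      · rw [show v⁻¹ * (g * t * g⁻¹) * v = MulAut.conj (v⁻¹ * g) t by simp [mul_assoc], MulEquiv.orderOf_eq, ht]
      · show ((g⁻¹ : G) : G ⧸ M).out * _ * _ = t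
        rw [hout]
        group
  -- the noncommuting pairs
  let D := {d : I × I // ¬ d.1.1 * d.2.1 = d.2.1 * d.1.1}
  have hD : Nat.card D = Nat.card I * (Nat.card I - q) := by
    rw [Nat.card_congr (Equiv.subtypeProdEquivSigmaSubtype fun (a b : I) => ¬ a.1 * b.1 = b.1 * a.1),
      Nat.card_sigma, Finset.sum_congr rfl (g := fun _ => Nat.card I - q) fun t _ => ?_,
      Finset.sum_const, Finset.card_univ, smul_eq_mul, ← Nat.card_eq_fintype_card]
    rw [Nat.card_eq_fintype_card, Fintype.card_subtype_compl, ← Nat.card_eq_fintype_card,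
      ← Nat.card_eq_fintype_card, hcentI t]
  set N := normalizer ((P : Subgroup G) : Set G) with hN
  let J := {t : G // t ∈ N ∧ orderOf t = 2}
  have hJh : ∀ t : J, ∃ a ∈ P, ∃ h : H, t.1 = a * (h : G) ∧ χ h = -1 := by
    intro t
    obtain ⟨a, ha, h, hh, e⟩ := hH.dec t.1 t.2.1
    refine ⟨a, ha, ⟨h, hh⟩, e, ?_⟩
    obtain ⟨ht1, ht2⟩ := hI1 _ t.2.2
    rw [e] at ht1 ht2
    have h2 : a * (h * a * h⁻¹) * (h * h) = (1 : G) * 1 := by
      rw [one_mul, ← ht2]; group
    have hhh := (hH.dec_unique ((P : Subgroup G).mul_mem ha (hH.conj_mem hh ha)) (one_mem _)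
      (H.mul_mem hh hh) H.one_mem h2).2
    refine (exists_unit_neg_one ?_).resolve_left fun h1 => ?_
    · rw [← map_mul, show (⟨h, hh⟩ : H) * ⟨h, hh⟩ = 1 from Subtype.ext hhh, map_one]
    · have : h = 1 := htriv _ ((hχ _).1 h1)
      rw [this, mul_one] at ht1 ht2
      obtain ⟨k, hk⟩ := P.2.exists_card_eq
      exact ht1 (orderOf_eq_one_iff.1 (Nat.eq_one_of_dvd_coprimes
        (Nat.Coprime.pow_left k (hp.out.coprime_iff_not_dvd.2 (hnd rfl)))
        (hk ▸ (P : Subgroup G).orderOf_dvd_natCard ha) (orderOf_dvd_of_pow_eq_one (by rw [pow_two, ht2]))))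
  have hJne : ∀ t s : J, t.1 ≠ s.1 → t.1 * s.1 ∈ P ∧ ¬ t.1 * s.1 = s.1 * t.1 := by
    intro t s hne
    obtain ⟨a, ha, h, e, hh⟩ := hJh t
    obtain ⟨a', ha', h', e', hh'⟩ := hJh s
    have hhh : h = h' := hχinj (hh.trans hh'.symm)
    subst hhh
    have hsq : (h : G) * h = 1 := by
      have : h * h = 1 := hχinj (by rw [map_mul, hh, map_one, neg_mul_neg, one_mul])
      exact congrArg Subtype.val this
    have hts : t.1 * s.1 ∈ P := by
      rw [e, e', show a * (h : G) * (a' * h) = a * ((h : G) * a' * (h : G)⁻¹) * ((h : G) * h) by group, hsq, mul_one]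
      exact (P : Subgroup G).mul_mem ha (hH.conj_mem h.2 ha')
    refine ⟨hts, fun hcm => hne ?_⟩
    obtain ⟨-, ht2⟩ := hI1 _ t.2.2
    obtain ⟨-, hs2⟩ := hI1 _ s.2.2
    have h4 : t.1 * s.1 * (t.1 * s.1) = 1 := by
      conv_lhs => arg 2; rw [hcm]
      rw [show t.1 * s.1 * (s.1 * t.1) = t.1 * (s.1 * s.1) * t.1 by group, hs2, mul_one, ht2]
    obtain ⟨k, hk⟩ := P.2.exists_card_eq
    have h1 : t.1 * s.1 = 1 := orderOf_eq_one_iff.1 (Nat.eq_one_of_dvd_coprimes
      (Nat.Coprime.pow_left k (hp.out.coprime_iff_not_dvd.2 (hnd rfl)))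
      (hk ▸ (P : Subgroup G).orderOf_dvd_natCard hts) (orderOf_dvd_of_pow_eq_one (by rw [pow_two, h4])))
    calc t.1 = t.1 * (s.1 * s.1) := by rw [hs2, mul_one]
      _ = s.1 := by rw [← mul_assoc, h1, one_mul]
  let DN := {d : J × J // ¬ d.1 = d.2}
  have hDN : Nat.card D = N.index * Nat.card DN := by
    rw [Subgroup.index_eq_card, ← Nat.card_prod]
    refine (Nat.card_congr (Equiv.ofBijective (fun o : (G ⧸ N) × DN =>
      (⟨(⟨o.1.out * o.2.1.1.1 * o.1.out⁻¹, ((MulAut.conj o.1.out).orderOf_eq _).trans o.2.1.1.2.2⟩,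
        ⟨o.1.out * o.2.1.2.1 * o.1.out⁻¹, ((MulAut.conj o.1.out).orderOf_eq _).trans o.2.1.2.2.2⟩),
        fun h => (hJne o.2.1.1 o.2.1.2 (fun e => o.2.2 (Subtype.ext e))).2
          ((MulAut.conj o.1.out).injective (by simp only [map_mul]; exact h))⟩ : D)) ⟨?_, ?_⟩)).symm
    · rintro ⟨c, ⟨⟨t, s⟩, hne⟩⟩ ⟨c', ⟨⟨t', s'⟩, hne'⟩⟩ h
      have ht : c.out * t.1 * c.out⁻¹ = c'.out * t'.1 * c'.out⁻¹ := congrArg (fun d : D => d.1.1.1) h
      have hs : c.out * s.1 * c.out⁻¹ = c'.out * s'.1 * c'.out⁻¹ := congrArg (fun d : D => d.1.2.1) h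
      obtain ⟨hP, hnc⟩ := hJne t s fun e => hne (Subtype.ext e)
      obtain ⟨hP', -⟩ := hJne t' s' fun e => hne' (Subtype.ext e)
      have hts : t.1 * s.1 ≠ 1 := fun e => hnc (by
        rw [e]
        obtain ⟨-, ht2⟩ := hI1 _ t.2.2
        have hst : s.1 = t.1 := by
          calc s.1 = t.1 * (t.1 * s.1) := by rw [← mul_assoc, ht2, one_mul]
            _ = t.1 := by rw [e, mul_one]
        rw [hst, ht2])
      have hmem : c'.out⁻¹ * c.out ∈ N := by
        refine mem_normalizer_of_meet hc hP hts ?_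
        rw [show c'.out⁻¹ * c.out * (t.1 * s.1) * (c'.out⁻¹ * c.out)⁻¹ =
          c'.out⁻¹ * ((c.out * t.1 * c.out⁻¹) * (c.out * s.1 * c.out⁻¹)) * c'.out by group, ht, hs,
          show c'.out⁻¹ * (c'.out * t'.1 * c'.out⁻¹ * (c'.out * s'.1 * c'.out⁻¹)) * c'.out = t'.1 * s'.1 by group]
        exact hP'
      have hcc : c = c' := by
        rw [← QuotientGroup.out_eq' c, ← QuotientGroup.out_eq' c', eq_comm, QuotientGroup.eq]
        exact hmem
      subst hcc
      exact Prod.ext rfl (Subtype.ext (Prod.ext (Subtype.ext (mul_left_cancel (mul_right_cancel ht)))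
        (Subtype.ext (mul_left_cancel (mul_right_cancel hs)))))
    · rintro ⟨⟨⟨t, ht⟩, ⟨s, hs⟩⟩, hne⟩
      obtain ⟨g, z, -, -, hT, hS', -⟩ :=
        exists_normalizer_of_noncommute hc hp2 (hI1 t ht).2 (hI1 s hs).2 hne
      obtain ⟨⟨v, hv⟩, hout⟩ : ∃ v : N, ((g⁻¹ : G) : G ⧸ N).out = g⁻¹ * v :=
        QuotientGroup.mk_out_eq_mul N g⁻¹
      have mk : ∀ w, orderOf w = 2 → g * w * g⁻¹ ∈ N →
          (v⁻¹ * (g * w * g⁻¹) * v ∈ N ∧ orderOf (v⁻¹ * (g * w * g⁻¹) * v) = 2) := fun w hw hwN =>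
        ⟨mul_mem (mul_mem (inv_mem hv) hwN) hv, by
          rw [show v⁻¹ * (g * w * g⁻¹) * v = MulAut.conj (v⁻¹ * g) w by simp [mul_assoc], MulEquiv.orderOf_eq, hw]⟩
      refine ⟨((g⁻¹ : G), ⟨(⟨_, mk t ht hT⟩, ⟨_, mk s hs hS'⟩), fun e => hne ?_⟩), ?_⟩
      · have e' : v⁻¹ * (g * t * g⁻¹) * v = v⁻¹ * (g * s * g⁻¹) * v := congrArg Subtype.val e
        have hts' : t = s := mul_left_cancel (mul_right_cancel (mul_left_cancel (mul_right_cancel e')))
        show t * s = s * t
        rw [hts']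
      · refine Subtype.ext (Prod.ext (Subtype.ext ?_) (Subtype.ext ?_))
        · show ((g⁻¹ : G) : G ⧸ N).out * _ * _ = t
          rw [hout]; group
        · show ((g⁻¹ : G) : G ⧸ N).out * _ * _ = s
          rw [hout]; group
  have ha1 : M.index ≠ 1 := by
    intro h
    rw [index_eq_one] at h
    refine (hc.simple K (normalizer_eq_top_iff.1 h)).elim (fun h' => ht₀1 ?_) fun h' => hKp ?_
    · rw [h', mem_bot] at ht₀K; exact ht₀K
    · obtain ⟨w, -, hw⟩ := exists_omega hc
      rw [h', card_top, ← hw]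
      exact orderOf_dvd_natCard w
  have hJne' : Nonempty J := by
    by_contra hJ
    rw [not_nonempty_iff] at hJ
    haveI : IsEmpty DN := ⟨fun d => hJ.false d.1.1⟩
    rw [Nat.card_of_isEmpty (α := DN), mul_zero] at hDN
    rw [hDN, hI] at hD
    rcases mul_eq_zero.1 hD.symm with h | h
    · rcases mul_eq_zero.1 h with h | h
      · exact M.index_ne_zero_of_finite h
      · exact hq0 h
    · have : 2 ≤ M.index := by have := M.index_ne_zero_of_finite; omega
      have : 2 * q ≤ M.index * q := Nat.mul_le_mul_right q this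
      omega
  have hJcard : Nat.card J = Nat.card (P : Subgroup G) := by
    obtain ⟨j₀⟩ := hJne'
    obtain ⟨a₀, ha₀, h₀, e₀, hh₀⟩ := hJh j₀
    have hsq : (h₀ : G) * h₀ = 1 := by
      have : h₀ * h₀ = 1 := hχinj (by rw [map_mul, hh₀, map_one, neg_mul_neg, one_mul])
      exact congrArg Subtype.val this
    have hnk : ¬ kern P H (h₀ : G) := fun hk => by
      have h1 := (hχ h₀).2 hk
      rw [hh₀, Units.ext_iff, Units.val_neg, Units.val_one] at h1
      have h2 : ((2 : ℕ) : ZMod p) = 0 := by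
        push_cast
        rw [← one_add_one_eq_two]
        nth_rewrite 1 [← h1]
        exact neg_add_cancel 1
      exact hnd rfl ((ZMod.natCast_eq_zero_iff 2 p).1 h2)
    have hmk : ∀ a : (P : Subgroup G), (a : G) * h₀ ∈ N ∧ orderOf ((a : G) * h₀) = 2 := by
      intro a
      refine ⟨mul_mem (le_normalizer a.2) (hH.le h₀.2), orderOf_eq_prime ?_ fun h => ?_⟩
      · have hi := hH.invert hc h₀.2 hsq hnk a.2
        rw [pow_two]
        calc (a : G) * h₀ * ((a : G) * h₀) = (a : G) * ((h₀ : G) * a * (h₀ : G)⁻¹) * ((h₀ : G) * h₀) := by group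
          _ = 1 := by rw [hi, hsq, mul_inv_cancel, mul_one]
      · have := (hH.dec_unique a.2 (one_mem _) h₀.2 H.one_mem (by rw [h, one_mul])).2
        exact hnk ⟨h₀.2, fun b _ => by rw [this]; simp⟩
    refine (Nat.card_congr (Equiv.ofBijective (fun a : ↥(P : Subgroup G) =>
      (⟨(a : G) * h₀, hmk a⟩ : J)) ⟨fun a b h => Subtype.ext (mul_right_cancel (congrArg Subtype.val h)), ?_⟩)).symm
    intro t
    obtain ⟨a, ha, h, e, hh⟩ := hJh t
    have : h = h₀ := hχinj (hh.trans hh₀.symm)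
    exact ⟨⟨a, ha⟩, Subtype.ext (by rw [e, this])⟩
  have hDNcard : Nat.card DN = Nat.card J * (Nat.card J - 1) := by
    rw [Nat.card_congr (Equiv.subtypeProdEquivSigmaSubtype fun (a b : J) => ¬ a = b),
      Nat.card_sigma, Finset.sum_congr rfl (g := fun _ => Nat.card J - 1) fun t _ => ?_,
      Finset.sum_const, Finset.card_univ, smul_eq_mul, ← Nat.card_eq_fintype_card]
    rw [Nat.card_eq_fintype_card, Fintype.card_subtype_compl, Fintype.card_subtype_eq',
      ← Nat.card_eq_fintype_card]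
  -- the final divisibility
  have hG1 : N.index * (Nat.card (P : Subgroup G) * Nat.card H) = Nat.card G := by
    rw [← hcard, mul_comm]; exact N.card_mul_index
  have hMcard : Nat.card M = Nat.card K * p ^ kK := by
    rw [← hkK, Subgroup.card_eq_card_quotient_mul_card_subgroup (K.subgroupOf M), mul_comm,
      Nat.card_congr (subgroupOfEquivOfLe hKM).toEquiv]
  have hG2 : M.index * (Nat.card K * p ^ kK) = Nat.card G := by
    rw [← hMcard, mul_comm]; exact M.card_mul_index
  set π := Nat.card (P : Subgroup G) with hπ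
  set a := M.index
  set b := N.index
  set k := Nat.card K
  set eh := Nat.card H
  set e := p ^ kK with he
  rw [hDNcard, hJcard, hD, hI] at hDN
  have hkey : a * q * (a * q - q) * eh = a * k * e * (π - 1) := by
    rw [hDN]
    calc b * (π * (π - 1)) * eh = b * (π * eh) * (π - 1) := by ring
      _ = a * (k * e) * (π - 1) := by rw [hG1, hG2]
      _ = a * k * e * (π - 1) := by ring
  obtain ⟨c, hc'⟩ := heq
  have hkey2 : e * ((c * c) * (a - 1) * eh) = k * (π - 1) := by
    have ha0 : 0 < a * e := Nat.mul_pos (Nat.pos_of_ne_zero M.index_ne_zero_of_finite)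
      (pow_pos hp.out.pos _)
    refine Nat.eq_of_mul_eq_mul_left ha0 ?_
    calc a * e * (e * ((c * c) * (a - 1) * eh)) = a * q * ((a - 1) * q) * eh := by rw [hc']; ring
      _ = a * q * (a * q - q) * eh := by rw [Nat.sub_one_mul]
      _ = a * k * e * (π - 1) := hkey
      _ = a * e * (k * (π - 1)) := by ring
  have hdvd : p ∣ k * (π - 1) := hkey2 ▸ (dvd_pow_self p hkK0).mul_right _
  rcases hp.out.dvd_mul.1 hdvd with h | h
  · exact hKp h
  · haveI : Nontrivial (P : Subgroup G) := (nontrivial_iff_ne_bot _).2 (sylow_ne_bot hc)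
    obtain ⟨n, hn, hπn⟩ := P.2.nontrivial_iff_card.1 inferInstance
    have h2 : p ∣ π := (dvd_pow_self p (by omega : n ≠ 0)).trans (dvd_of_eq hπn.symm)
    have h3 : p ∣ π - (π - 1) := Nat.dvd_sub h2 h
    rw [Nat.sub_sub_self Nat.card_pos] at h3
    exact hp.out.not_dvd_one h3

end Cfsg.Agent.GenA.CycPrime
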