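import Mathlib
import Cfsg.Agent.GenA.CycPrime.Regular

/-! A cyclic Sylow subgroup and abelian `p'`-subgroups: normal complement or normal Sylow. -/

set_option autoImplicit false

namespace Cfsg.Agent.GenA.CycPrime

open Subgroup

variable {G : Type*} [Group G] [Finite G] {p : ℕ} [hp : Fact p.Prime]

theorem cyc_all {P : Sylow p G} (hP : IsCyclic (P : Subgroup G)) (X : Subgroup G) (hX : IsPGroup p X) :
    IsCyclic X := by
  obtain ⟨Q, hQ⟩ := hX.exists_le_sylow
  haveI : IsCyclic (Q : Subgroup G) :=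
    haveI := hP
    isCyclic_of_surjective (P.equiv Q).toMonoidHom (P.equiv Q).surjective
  exact isCyclic_of_le hQ

theorem abPrime_subgroup (hab : AbPrime p G) (X : Subgroup G) : AbPrime p X := by
  intro H hH a ha b hb
  refine Subtype.ext ?_
  push_cast
  exact hab (H.map X.subtype) (by rwa [card_subtype]) a ⟨a, ha, rfl⟩ b ⟨b, hb, rfl⟩

theorem abPrime_quotient_prime' (hab : AbPrime p G) (K : Subgroup G) [K.Normal]
    (hK : ¬ p ∣ Nat.card K) : AbPrime p (G ⧸ K) := by
  intro X hX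
  rintro x hx y hy
  obtain ⟨a, rfl⟩ := QuotientGroup.mk_surjective x
  obtain ⟨b, rfl⟩ := QuotientGroup.mk_surjective y
  rw [← QuotientGroup.mk_mul, ← QuotientGroup.mk_mul]
  refine congrArg _ (hab (X.comap (QuotientGroup.mk' K)) ?_ a hx b hy)
  rw [Cfsg.Agent.PLocal.Cores.card_comap_eq _ (QuotientGroup.mk'_surjective K), QuotientGroup.ker_mk']
  exact fun h => (hp.out.dvd_mul.1 h).elim hK hX

theorem abPrime_quotient_pGroup (hab : AbPrime p G) (Z : Subgroup G) [Z.Normal] (hZ : IsPGroup p Z) :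
    AbPrime p (G ⧸ Z) := by
  intro X hX
  set π := QuotientGroup.mk' Z
  set L := X.comap π with hL
  have hZL : Z ≤ L := (QuotientGroup.ker_mk' Z).symm.le.trans (ker_le_comap _ _)
  have hcard : Nat.card L = Nat.card Z * Nat.card X := by
    rw [hL, Cfsg.Agent.PLocal.Cores.card_comap_eq _ (QuotientGroup.mk'_surjective Z), QuotientGroup.ker_mk']
  have hrel : (Z.subgroupOf L).index = Nat.card X := by
    have h := (Z.subgroupOf L).card_mul_index
    rw [Nat.card_congr (subgroupOfEquivOfLe hZL).toEquiv, hcard] at h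
    exact Nat.eq_of_mul_eq_mul_left Nat.card_pos h
  obtain ⟨k, hk⟩ := hZ.exists_card_eq
  have hcop : (Nat.card (Z.subgroupOf L)).Coprime (Z.subgroupOf L).index := by
    rw [hrel, Nat.card_congr (subgroupOfEquivOfLe hZL).toEquiv, hk]
    exact Nat.Coprime.pow_left k (hp.out.coprime_iff_not_dvd.2 hX)
  obtain ⟨H₀, hH₀⟩ := exists_right_complement'_of_coprime hcop
  have hH₀c : Nat.card H₀ = Nat.card X := by rw [← hrel]; exact hH₀.symm.index_eq_card.symm
  intro x hx y hy
  have hlift : ∀ z ∈ X, ∃ h ∈ H₀.map L.subtype, π h = z := by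
    intro z hz
    obtain ⟨g, rfl⟩ := QuotientGroup.mk'_surjective Z z
    obtain ⟨⟨a, h⟩, e⟩ := hH₀.2 (⟨g, hz⟩ : L)
    refine ⟨(h : L), ⟨h, h.2, rfl⟩, ?_⟩
    have e' : ((a : L) : G) * ((h : L) : G) = g := congrArg Subtype.val e
    rw [← e', map_mul, show π ((a : L) : G) = 1 from
      (QuotientGroup.eq_one_iff _).2 (mem_subgroupOf.1 a.2), one_mul]
  obtain ⟨a, ha, rfl⟩ := hlift x hx
  obtain ⟨b, hb, rfl⟩ := hlift y hy
  rw [← map_mul, ← map_mul, hab _ (by rw [card_subtype, hH₀c]; exact hX) a ha b hb]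

theorem cyc_quotient {P : Sylow p G} (hP : IsCyclic (P : Subgroup G)) (K : Subgroup G) [K.Normal]
    (Q : Sylow p (G ⧸ K)) : IsCyclic (Q : Subgroup (G ⧸ K)) := by
  obtain ⟨P', rfl⟩ := Sylow.mapSurjective_surjective (QuotientGroup.mk'_surjective K) p Q
  haveI := cyc_all hP _ P'.2
  show IsCyclic ((P' : Subgroup G).map (QuotientGroup.mk' K))
  exact isCyclic_of_surjective ((QuotientGroup.mk' K).subgroupMap _)
    ((QuotientGroup.mk' K).subgroupMap_surjective _)

theorem case_prime' (hab : AbPrime p G) (P : Sylow p G) (hP : IsCyclic (P : Subgroup G))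
    (K : Subgroup G) [hKn : K.Normal] (hK : ¬ p ∣ Nat.card K) (h : Dich p (G ⧸ K)) :
    Cfsg.HasNormalPComplement p G ∨ (P : Subgroup G).Normal := by
  rcases h with h | h
  · exact Or.inl (Transfer.NormalPComplement.hasNormalPComplement_of_quotient
      ((hp.out.coprime_iff_not_dvd.2 hK).symm) h)
  set π := QuotientGroup.mk' K
  set L := ((P : Subgroup G).map π).comap π with hLdef
  haveI hPn : ((P : Subgroup G).map π).Normal := h (P.mapSurjective (QuotientGroup.mk'_surjective K))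
  have hLn : L.Normal := hPn.comap π
  have hPL : (P : Subgroup G) ≤ L := le_comap_map _ _
  have hL : L = (P : Subgroup G) ⊔ K := by rw [hLdef, comap_map_eq, QuotientGroup.ker_mk']
  have hfr : normalizer ((P : Subgroup G) : Set G) ⊔ L = ⊤ := by
    have h1 := Sylow.normalizer_sup_eq_top (P.subtype hPL)
    rwa [show ((P.subtype hPL : Sylow p L) : Subgroup L).map L.subtype = (P : Subgroup G) from
      subgroupOf_map_subtype (P : Subgroup G) L |>.trans (inf_eq_left.2 hPL)] at h1
  set N := normalizer ((P : Subgroup G) : Set G) with hN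
  let P' : Sylow p N := P.subtype le_normalizer
  haveI hn : (P' : Subgroup N).Normal := normal_subgroupOf_of_le_normalizer le_rfl
  obtain ⟨H₀, hH₀⟩ := exists_right_complement'_of_coprime P'.card_coprime_index
  have hH₀p : ¬ p ∣ Nat.card (H₀.map N.subtype) := by
    rw [card_subtype, ← hH₀.symm.index_eq_card]
    exact P'.not_dvd_index
  set H := H₀.map N.subtype with hHdef
  have hKH : ∀ h ∈ H, ∀ k ∈ K, h * k = k * h := by
    intro h hh k hk
    exact hab (K ⊔ H) (card_sup_not_dvd (fun b _ a ha => hKn.conj_mem a ha b) hK hH₀p) h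
      (mem_sup_right hh) k (mem_sup_left hk)
  have hcomm : ∀ a ∈ (P : Subgroup G), ∀ b ∈ (P : Subgroup G), a * b = b * a :=
    fun a ha b hb => comm_of_cyclic hP ha hb
  by_cases hcen : ∀ h ∈ H, ∀ x ∈ (P : Subgroup G), h * x = x * h
  · refine Or.inl (Transfer.NormalPComplement.hasNormalPComplement_of_normalizer_le_centralizer P ?_)
    intro g hg
    obtain ⟨⟨a, h⟩, e⟩ := hH₀.2 ⟨g, hg⟩
    have e' : ((a : N) : G) * ((h : N) : G) = g := congrArg Subtype.val e
    refine mem_centralizer_iff.2 fun x hx => ?_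
    rw [← e', ← mul_assoc, hcomm x hx _ (mem_subgroupOf.1 a.2), mul_assoc,
      ← hcen ((h : N) : G) ⟨h, h.2, rfl⟩ x hx, mul_assoc]
  push_neg at hcen
  obtain ⟨h, hh, x₀, hx₀, hne⟩ := hcen
  right
  have hhN : h ∈ N := map_subtype_le _ hh
  have hconj : ∀ x ∈ (P : Subgroup G), h * x * h⁻¹ ∈ (P : Subgroup G) := fun x hx =>
    (mem_normalizer_iff.1 hhN x).1 hx
  let ψ : ↥(P : Subgroup G) →* ↥(P : Subgroup G) :=
    MonoidHom.mk' (fun x => ⟨h * x * h⁻¹ * (x : G)⁻¹, (P : Subgroup G).mul_mem (hconj x x.2) ((P : Subgroup G).inv_mem x.2)⟩)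
      fun x y => Subtype.ext (by
        push_cast
        have h1 : h * (y : G) * h⁻¹ * (x : G)⁻¹ = (x : G)⁻¹ * (h * (y : G) * h⁻¹) :=
          hcomm _ (hconj y y.2) _ ((P : Subgroup G).inv_mem x.2)
        have h2 : (y : G)⁻¹ * (x : G)⁻¹ = (x : G)⁻¹ * (y : G)⁻¹ :=
          hcomm _ ((P : Subgroup G).inv_mem y.2) _ ((P : Subgroup G).inv_mem x.2)
        calc h * ((x : G) * y) * h⁻¹ * ((x : G) * y)⁻¹
            = h * (x : G) * h⁻¹ * (h * y * h⁻¹) * ((y : G)⁻¹ * (x : G)⁻¹) := by group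
          _ = h * (x : G) * h⁻¹ * ((h * y * h⁻¹) * (x : G)⁻¹) * (y : G)⁻¹ := by rw [h2]; group
          _ = _ := by rw [h1]; group)
  have hψinj : Function.Injective ψ := by
    rw [injective_iff_map_eq_one]
    intro y hy
    by_contra hy1
    refine hne (commute_of_fix P.2 hP hconj ?_ y.2 (fun e => hy1 (Subtype.ext e)) ?_ x₀ hx₀)
    · exact fun hd => hH₀p (hd.trans (H.orderOf_dvd_natCard hh))
    · exact mul_inv_eq_iff_eq_mul.1 (mul_inv_eq_one.1 (congrArg Subtype.val hy))
  have hψsurj : Function.Surjective ψ := Finite.injective_iff_surjective.1 hψinj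
  have hPK : ∀ y ∈ (P : Subgroup G), ∀ k ∈ K, y * k = k * y := by
    intro y hy k hk
    obtain ⟨x, hx⟩ := hψsurj ⟨y, hy⟩
    have hx' : h * (x : G) * h⁻¹ * (x : G)⁻¹ = y := congrArg Subtype.val hx
    have hc1 : h ∈ centralizer (K : Set G) := mem_centralizer_iff.2 fun z hz => (hKH h hh z hz).symm
    have hc2 : h * ((x : G) * h⁻¹ * (x : G)⁻¹) ∈ centralizer (K : Set G) :=
      mul_mem hc1 ((inferInstance : (centralizer (K : Set G)).Normal).conj_mem _ (inv_mem hc1) _)
    rw [← mul_assoc, ← mul_assoc, hx'] at hc2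
    exact (mem_centralizer_iff.1 hc2 k hk).symm
  have hKN : K ≤ N := by
    refine le_trans (fun k hk => ?_) (centralizer_le_normalizer ((P : Subgroup G) : Set G))
    exact mem_centralizer_iff.2 fun y hy => hPK y hy k hk
  refine normalizer_eq_top_iff.1 (eq_top_iff.2 (hfr ▸ sup_le le_rfl ?_))
  rw [hL]
  exact sup_le le_normalizer hKN

theorem case_pGroup (P : Sylow p G) (hP : IsCyclic (P : Subgroup G))
    (hA : ∀ K : Subgroup G, K.Normal → ¬ p ∣ Nat.card K → K = ⊥)
    (Z : Subgroup G) [hZn : Z.Normal] (hZc : Nat.card Z = p) (h : Dich p (G ⧸ Z)) :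
    (P : Subgroup G).Normal := by
  have hZp : IsPGroup p Z := IsPGroup.of_card (n := 1) (by rw [hZc, pow_one])
  obtain ⟨Q, hQ⟩ := hZp.exists_le_sylow
  obtain ⟨g, hg⟩ := MulAction.exists_smul_eq G Q P
  have hZP : Z ≤ (P : Subgroup G) := by
    intro z hz
    rw [← hg]
    exact ⟨g⁻¹ * z * g, hQ (by simpa using hZn.conj_mem z hz g⁻¹), by simp [MulAut.conj, mul_assoc]⟩
  set π := QuotientGroup.mk' Z
  rcases h with h | h
  swap
  · haveI hPn : ((P : Subgroup G).map π).Normal := h (P.mapSurjective (QuotientGroup.mk'_surjective Z))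
    have := hPn.comap π
    rwa [comap_map_eq_self (by rw [QuotientGroup.ker_mk']; exact hZP)] at this
  obtain ⟨N₀, hN₀, hN₀c, k, hk⟩ := Transfer.NormalPComplement.hasNormalPComplement_iff_exists.1 h
  set L := N₀.comap π with hL
  haveI hLn : L.Normal := hN₀.comap π
  set C := centralizer (Z : Set G)
  have hLc : Nat.card L = p * Nat.card N₀ := by
    rw [hL, Cfsg.Agent.PLocal.Cores.card_comap_eq _ (QuotientGroup.mk'_surjective Z), QuotientGroup.ker_mk', hZc]
  have hLi : L.index = p ^ k := by rw [hL, index_comap_of_surjective _ (QuotientGroup.mk'_surjective Z), hk]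
  have hZC : Z ≤ C := fun z hz => mem_centralizer_iff.2 fun y hy =>
    comm_of_cyclic hP (hZP hy) (hZP hz)
  have hPC : (P : Subgroup G) ≤ C := fun x hx => mem_centralizer_iff.2 fun y hy =>
    comm_of_cyclic hP (hZP hy) hx
  set D := L ⊓ C with hD
  have hZL : Z ≤ L := (QuotientGroup.ker_mk' Z).symm.le.trans (ker_le_comap _ _)
  have hZD : Z ≤ D := le_inf hZL hZC
  -- the `p'`-elements of `D` form a normal subgroup
  have hcen : ∀ d ∈ D, ∀ z ∈ Z, d * z = z * d := fun d hd z hz => (mem_centralizer_iff.1 hd.2 z hz).symm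
  obtain ⟨m, hm⟩ : ∃ m, m = Nat.card N₀ := ⟨_, rfl⟩
  have hmp : ¬ p ∣ m := hm ▸ (hp.out.coprime_iff_not_dvd.1 hN₀c.symm)
  have hpow : ∀ d ∈ D, d ^ m ∈ Z := by
    intro d hd
    have h1 : π d ∈ N₀ := hd.1
    have h2 : π d ^ m = 1 := hm ▸ orderOf_dvd_iff_pow_eq_one.1 (N₀.orderOf_dvd_natCard h1)
    rw [← map_pow] at h2
    exact (QuotientGroup.eq_one_iff _).1 h2
  have hZsq : ∀ z ∈ Z, z ^ p = 1 := fun z hz => hZc ▸ orderOf_dvd_iff_pow_eq_one.1 (Z.orderOf_dvd_natCard hz)
  let K1 : Subgroup G :=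
    { carrier := {d | d ∈ D ∧ d ^ m = 1}
      one_mem' := ⟨D.one_mem, one_pow _⟩
      inv_mem' := fun {d} hd => ⟨D.inv_mem hd.1, by rw [inv_pow, hd.2, inv_one]⟩
      mul_mem' := fun {a b} ha hb => by
        refine ⟨D.mul_mem ha.1 hb.1, ?_⟩
        haveI : (Z.subgroupOf D).Normal := Subgroup.Normal.subgroupOf hZn D
        have hcop : (Nat.card (Z.subgroupOf D)).Coprime (Z.subgroupOf D).index := by
          rw [Nat.card_congr (subgroupOfEquivOfLe hZD).toEquiv, hZc]
          refine hp.out.coprime_iff_not_dvd.2 fun hd => hmp ?_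
          have h1 : Nat.card D ∣ p * m := by rw [hm, ← hLc]; exact card_dvd_of_le inf_le_left
          rw [← (Z.subgroupOf D).card_mul_index, Nat.card_congr (subgroupOfEquivOfLe hZD).toEquiv, hZc] at h1
          exact hd.trans (Nat.dvd_of_mul_dvd_mul_left hp.out.pos h1)
        obtain ⟨H₀, hH₀⟩ := exists_right_complement'_of_coprime hcop
        have hin : ∀ d : D, (d : G) ^ m = 1 → d ∈ H₀ := by
          intro d hd
          obtain ⟨⟨z, h₀⟩, e⟩ := hH₀.2 d
          have hz : ((z : D) : G) ∈ Z := mem_subgroupOf.1 z.2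
          have hcm : Commute ((z : D) : G) ((h₀ : D) : G) := (hcen _ (h₀ : D).2 _ hz).symm
          have e' : ((z : D) : G) * ((h₀ : D) : G) = d := congrArg Subtype.val e
          rw [← e', hcm.mul_pow] at hd
          have h3 : (h₀ : D) ^ m ∈ Z.subgroupOf D := by
            rw [mem_subgroupOf, SubmonoidClass.coe_pow]
            exact hpow _ (h₀ : D).2
          have h4 : (h₀ : D) ^ m = 1 := by
            have := hH₀.disjoint
            rw [disjoint_def] at this
            exact this h3 (pow_mem h₀.2 m)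
          have h4' : ((h₀ : D) : G) ^ m = 1 := by rw [← SubmonoidClass.coe_pow, h4]; rfl
          rw [h4', mul_one] at hd
          have hz1 : ((z : D) : G) = 1 := orderOf_eq_one_iff.1 (Nat.eq_one_of_dvd_coprimes
            (hp.out.coprime_iff_not_dvd.2 hmp) (orderOf_dvd_of_pow_eq_one (hZsq _ hz))
            (orderOf_dvd_of_pow_eq_one hd))
          rw [hz1, one_mul] at e'
          rw [← Subtype.ext (a1 := (h₀ : D)) (a2 := d) e']
          exact h₀.2
        have hab : (⟨a, ha.1⟩ : D) * ⟨b, hb.1⟩ ∈ H₀ := mul_mem (hin _ ha.2) (hin _ hb.2)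
        have h3 : ((⟨a, ha.1⟩ : D) * ⟨b, hb.1⟩) ^ m ∈ Z.subgroupOf D := by
          rw [mem_subgroupOf, SubmonoidClass.coe_pow]
          exact hpow _ (D.mul_mem ha.1 hb.1)
        have := hH₀.disjoint
        rw [disjoint_def] at this
        have h5 := congrArg Subtype.val (this h3 (pow_mem hab m))
        simpa using h5 }
  haveI : D.Normal := normal_inf_normal L C
  have hK1n : K1.Normal := ⟨fun d hd g => ⟨(inferInstance : D.Normal).conj_mem d hd.1 g, by
    rw [conj_pow, hd.2, mul_one, mul_inv_cancel]⟩⟩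
  have hK1p : ¬ p ∣ Nat.card K1 := by
    intro hd
    obtain ⟨x, hx⟩ := exists_prime_orderOf_dvd_card' (G := K1) p hd
    have h1 : p ∣ m := by
      rw [← hx, ← orderOf_coe]
      exact orderOf_dvd_of_pow_eq_one x.2.2
    exact hmp h1
  have hK1 := hA K1 hK1n hK1p
  have hDZ : D ≤ Z := by
    intro d hd
    have h1 : d ^ p ∈ K1 := by
      refine ⟨D.pow_mem hd p, ?_⟩
      rw [← pow_mul, mul_comm, pow_mul]
      exact hZsq _ (hpow d hd)
    rw [hK1, mem_bot] at h1
    obtain ⟨u, v, huv⟩ : ∃ u v : ℤ, u * p + v * m = 1 :=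
      Int.isCoprime_iff_nat_coprime.2 (by simpa using hp.out.coprime_iff_not_dvd.2 hmp)
    have : d = (d ^ p) ^ u * (d ^ m) ^ v := by
      rw [← zpow_natCast, ← zpow_natCast, ← zpow_mul, ← zpow_mul, ← zpow_add, mul_comm (p : ℤ), mul_comm (m : ℤ), huv, zpow_one]
    rw [this, h1, one_zpow, one_mul]
    exact Z.zpow_mem (hpow d hd) _
  have hCp : IsPGroup p C := by
    intro c
    obtain ⟨j, -, hj⟩ : ∃ j ≤ k, orderOf ((c : G) : G ⧸ L) = p ^ j := (Nat.dvd_prime_pow hp.out).1
      (hLi ▸ (Subgroup.index_eq_card L).symm ▸ orderOf_dvd_natCard _)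
    refine ⟨j + 1, Subtype.ext ?_⟩
    have h1 : (c : G) ^ p ^ j ∈ D := by
      refine ⟨?_, pow_mem c.2 _⟩
      refine (QuotientGroup.eq_one_iff (N := L) _).1 ?_
      rw [QuotientGroup.mk_pow, ← hj, pow_orderOf_eq_one]
    rw [SubmonoidClass.coe_pow, OneMemClass.coe_one, pow_succ, pow_mul]
    exact hZsq _ (hDZ h1)
  rw [← P.3 hCp hPC]
  infer_instance

universe u

theorem dich : ∀ (n : ℕ) (G : Type u) [Group G] [Finite G], Nat.card G = n → AbPrime p G →
    ∀ P : Sylow p G, IsCyclic (P : Subgroup G) →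
      Cfsg.HasNormalPComplement p G ∨ (P : Subgroup G).Normal := by
  intro n
  induction n using Nat.strong_induction_on with
  | _ n ih =>
  intro G _ _ hn hab P hP
  classical
  have hquot : ∀ K : Subgroup G, [K.Normal] → K ≠ ⊥ → AbPrime p (G ⧸ K) → Dich p (G ⧸ K) := by
    intro K _ hK habK
    obtain ⟨Q₀⟩ := (inferInstance : Nonempty (Sylow p (G ⧸ K)))
    by_cases h : Cfsg.HasNormalPComplement p (G ⧸ K)
    · exact Or.inl h
    · right
      intro Q
      have hlt : Nat.card (G ⧸ K) < n := by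
        rw [← hn, Subgroup.card_eq_card_quotient_mul_card_subgroup K]
        exact lt_mul_of_one_lt_right Nat.card_pos ((K.one_lt_card_iff_ne_bot).2 hK)
      exact (ih _ hlt (G ⧸ K) rfl habK Q (cyc_quotient hP K Q)).resolve_left h
  by_cases hA : ∃ K : Subgroup G, K.Normal ∧ ¬ p ∣ Nat.card K ∧ K ≠ ⊥
  · obtain ⟨K, hKn, hK, hK1⟩ := hA
    exact case_prime' hab P hP K hK (hquot K hK1 (abPrime_quotient_prime' hab K hK))
  push_neg at hA
  by_cases hB : ∃ Q : Subgroup G, Q.Normal ∧ IsPGroup p Q ∧ Q ≠ ⊥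
  · obtain ⟨Q, hQn, hQp, hQ1⟩ := hB
    right
    haveI : Nontrivial Q := (nontrivial_iff_ne_bot _).2 hQ1
    obtain ⟨j, hj, hjc⟩ := hQp.nontrivial_iff_card.1 inferInstance
    obtain ⟨w, hw⟩ := exists_prime_orderOf_dvd_card' (G := Q) p (hjc ▸ dvd_pow_self p (by omega))
    set Z := zpowers (w : G)
    have hw' : orderOf (w : G) = p := by rw [orderOf_coe, hw]
    haveI : Z.Normal := by
      refine ⟨fun z hz g => ?_⟩
      obtain ⟨i, rfl⟩ := hz
      rw [← conj_zpow]
      refine zpow_mem ?_ i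
      have heq := eq_of_card_eq (cyc_all hP Q hQp) (zpowers_le.2 w.2) (zpowers_le.2 (hQn.conj_mem _ w.2 g))
        (by rw [Nat.card_zpowers, Nat.card_zpowers]; exact ((MulAut.conj g).orderOf_eq (w : G)).symm)
      exact heq.ge (mem_zpowers _)
    have hZc : Nat.card Z = p := by rw [Nat.card_zpowers, hw']
    have hZne : Z ≠ ⊥ := fun h => hp.out.ne_one (by rw [← hZc, h, card_bot])
    exact case_pGroup P hP (fun K hK hKp => hA K hK hKp) Z hZc
      (hquot Z hZne (abPrime_quotient_pGroup hab Z (IsPGroup.of_card (n := 1) (by rw [hZc, pow_one]))))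
  push_neg at hB
  by_contra hfalse
  push_neg at hfalse
  refine simple_false (P := P) ⟨fun N hN => ?_, hP, hab, fun X hX => ?_, hfalse.1, hfalse.2⟩
  swap
  · obtain ⟨Q₀⟩ := (inferInstance : Nonempty (Sylow p X))
    by_cases h : Cfsg.HasNormalPComplement p X
    · exact Or.inl h
    · right
      intro Q
      have hlt : Nat.card X < n := hn ▸ lt_of_le_of_ne (Nat.le_of_dvd Nat.card_pos X.card_subgroup_dvd_card)
        (fun e => hX ((card_eq_iff_eq_top X).1 e))
      haveI := cyc_all hP _ (Q.2.map X.subtype)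
      have hQc : IsCyclic (Q : Subgroup X) :=
        isCyclic_of_injective ((X.subtype).subgroupMap (Q : Subgroup X)) fun a b h =>
          Subtype.ext (Subtype.ext (congrArg (fun z : (Q : Subgroup X).map X.subtype => (z : G)) h))
      exact (ih _ hlt X rfl (abPrime_subgroup hab X) Q hQc).resolve_left h
  by_contra hne
  push_neg at hne
  have hlt : Nat.card N < n := hn ▸ lt_of_le_of_ne (Nat.le_of_dvd Nat.card_pos N.card_subgroup_dvd_card)
    (fun e => hne.2 ((card_eq_iff_eq_top N).1 e))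
  obtain ⟨Q⟩ := (inferInstance : Nonempty (Sylow p N))
  haveI := cyc_all hP _ (Q.2.map N.subtype)
  have hQc : IsCyclic (Q : Subgroup N) :=
    isCyclic_of_injective ((N.subtype).subgroupMap (Q : Subgroup N)) fun a b h =>
      Subtype.ext (Subtype.ext (congrArg (fun z : (Q : Subgroup N).map N.subtype => (z : G)) h))
  haveI := hN
  rcases ih _ hlt N rfl (abPrime_subgroup hab N) Q hQc with h | h
  · obtain ⟨i, hi⟩ := Transfer.NormalPComplement.hasNormalPComplement_iff_pPrimeCore.1 h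
    have hchar := Cfsg.Agent.PLocal.Cores.pPrimeCore_characteristic (p := p) (G := N)
    have hbot : (Cfsg.pPrimeCore p N).map N.subtype = ⊥ := by
      refine hA _ inferInstance ?_
      rw [card_subtype]
      exact hp.out.coprime_iff_not_dvd.1 Cfsg.Agent.PLocal.Cores.coprime_card_pPrimeCore.symm
    rw [map_eq_bot_iff_of_injective _ N.subtype_injective] at hbot
    rw [hbot, index_bot] at hi
    exact hne.1 (hB N hN (IsPGroup.of_card hi))
  · haveI := Sylow.characteristic_of_normal Q h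
    have hbot : (Q : Subgroup N).map N.subtype = ⊥ := hB _ inferInstance (Q.2.map _)
    rw [map_eq_bot_iff_of_injective _ N.subtype_injective] at hbot
    refine hne.1 (hA N hN fun hd => Q.not_dvd_index ?_)
    rw [hbot, index_bot]
    exact hd

end Cfsg.Agent.GenA.CycPrime
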